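import Cfsg.Agent.Classical.OrthElusive.FieldExt.KSpace
import Cfsg.Agent.Classical.OrthElusive.Atom
import Cfsg.Agent.Classical.Orth.Orders

/-!
# The order of the centralizer of the field
-/

set_option autoImplicit false
set_option linter.unusedSectionVars false
set_option linter.style.haveILetI false

open QuadraticMap Submodule Cfsg.Lib.FormNormal
open Cfsg.Lib.Classical.PrimeOrd (Inv)
open Cfsg.Lib.Classical.OrthCard (Aut prodQ card_plus card_minus card_odd card_isometryGroup card_congr)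

namespace Cfsg.Lib.OrthEl.Ext

universe u v

section Generic

variable {F : Type u} [Field F] [Finite F] {V : Type v} [AddCommGroup V] [Module F V] [FiniteDimensional F V]
  {A : QuadraticForm F V}

/-- The order of the group of a form in even dimension. -/
theorem card_even (hA : (polarBilin A).Nondegenerate) {k : ℕ} (hV : Module.finrank F V = 2 * (k + 1)) :
    (Plus A (⊤ : Submodule F V) ∧ Nat.card (Aut A) =
      2 * Nat.card F ^ ((k + 1) * k) * (Nat.card F ^ (k + 1) - 1) * prodQ (Nat.card F) k) ∨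
    (¬ Plus A (⊤ : Submodule F V) ∧ Nat.card (Aut A) =
      2 * Nat.card F ^ ((k + 1) * k) * (Nat.card F ^ (k + 1) + 1) * prodQ (Nat.card F) k) := by
  haveI := Fintype.ofFinite F
  rcases OrthField.even_cases hA hV with ⟨g, hg⟩ | ⟨k', hk', h⟩
  · refine Or.inl ⟨(plus_top_congr g (R := Cfsg.Lib.Classical.HypQuad.plusForm (k + 1) F) fun v => by
      rw [hg, Cfsg.Lib.Classical.HypQuad.plusForm_apply]).2 (plus_top_plus (k + 1)), ?_⟩
    rw [card_congr A (Cfsg.Lib.Classical.HypQuad.plusForm (k + 1) F) g (fun v => by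
      rw [hg, Cfsg.Lib.Classical.HypQuad.plusForm_apply]), ← card_isometryGroup,
      show ⇑(Cfsg.Lib.Classical.HypQuad.plusForm (k + 1) F) = Cfsg.quadFormPlus (k + 1) F from
        funext (Cfsg.Lib.Classical.HypQuad.plusForm_apply (k + 1)), card_plus]
  · obtain rfl : k' = k := by omega
    obtain ⟨ζ, hζ⟩ := OrthField.exists_zeta (F := F)
    have hab := OrthField.aniso_zeta hζ
    obtain ⟨g, hg⟩ := h ζ hζ
    refine Or.inr ⟨fun hp => minus_not_plus k' hab ((plus_top_congr g (R :=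
      Cfsg.Lib.Classical.Refl.minusForm k' F 1 ζ) fun v => by rw [hg, Cfsg.Lib.Classical.Refl.minusForm_coe]).1 hp), ?_⟩
    rw [card_congr A (Cfsg.Lib.Classical.Refl.minusForm k' F 1 ζ) g (fun v => by
      rw [hg, Cfsg.Lib.Classical.Refl.minusForm_coe]), ← card_isometryGroup, Cfsg.Lib.Classical.Refl.minusForm_coe,
      card_minus hab]

theorem polar_smul_form' (c : F) (x y : V) : polar (⇑(c • A)) x y = c * polar (⇑A) x y :=
  FormNormal.polar_smul_form c A x y

/-- The order of the group of a form in odd dimension. -/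
theorem card_odd_dim (h2 : (2 : F) ≠ 0) (hA : (polarBilin A).Nondegenerate) {k : ℕ}
    (hV : Module.finrank F V = 2 * k + 1) :
    Nat.card (Aut A) = 2 * Nat.card F ^ (k ^ 2) * prodQ (Nat.card F) k := by
  haveI := Fintype.ofFinite F
  obtain ⟨D, z, hD, hz, hz0, hzi, hr⟩ := odd_basis hV hA
  obtain ⟨g, hg⟩ := OrthField.odd_model (B := (A z)⁻¹ • A) (D.scale _ (inv_ne_zero hz0)) (z := z) hz
    (by rw [QuadraticMap.smul_apply, smul_eq_mul, inv_mul_cancel₀ hz0]) hzi hr
  have e : Nat.card (Aut A) = Nat.card (Aut ((A z)⁻¹ • A)) := Nat.card_congr (Equiv.subtypeEquivRight fun e => by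
    simp only [QuadraticMap.smul_apply, smul_eq_mul]
    exact forall_congr' fun v => ⟨fun h => by rw [h], fun h => mul_left_cancel₀ (inv_ne_zero hz0) h⟩)
  rw [e, card_congr ((A z)⁻¹ • A) (Cfsg.Lib.Classical.Refl.oddForm k F)
    (g.trans (LinearEquiv.funCongrLeft F F (Equiv.sumCongr (Equiv.refl Unit)
      (Equiv.sumCongr (finCongr hD.symm) (finCongr hD.symm))))) ?_, ← card_isometryGroup,
    Cfsg.Lib.Classical.Refl.oddForm_coe, card_odd h2]
  intro v
  rw [hg, Cfsg.Lib.Classical.Refl.oddForm_coe]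
  subst hD
  rfl

end Generic

section Count

variable {F : Type u} [Field F] [Fintype F] {V : Type v} [AddCommGroup V] [Module F V] [FiniteDimensional F V]
  {Q : QuadraticForm F V} {J : Module.End F V} {δ : F}

/-- The form over the extension has the same type. -/
theorem Str.plus_iff_K (S : Str Q J δ) [Fact (∀ r : F, r ^ 2 ≠ δ + 0 * r)] (hQ : ND Q (⊤ : Submodule F V)) {k : ℕ}
    (hV : Module.finrank (Quad δ) (KV S) = 2 * k) :
    Plus (qK S) (⊤ : Submodule (Quad δ) (KV S)) ↔ Plus Q (⊤ : Submodule F V) := by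
  constructor
  · rintro ⟨U, -, hts, hd⟩
    refine ⟨ofK S U, le_top, fun u hu => ?_, ?_⟩
    · rw [← qK_im S, hts _ ((mem_ofK S).1 hu)]; rfl
    · rw [finrank_ofK, finrank_top, finrank_kv S, ← finrank_top (R := Quad δ) (M := KV S), ← hd]
  intro hp
  rcases even_basis (qK S) hV (nd_kv S hQ) with ⟨D, hD⟩ | ⟨D, hD, hK⟩
  · refine ⟨span (Quad δ) (Set.range D.e), le_top, ts_span D.qe D.ee, ?_⟩
    have hi : LinearIndependent (Quad δ) D.e :=
      ((D.indep (κ := Fin 0) Fin.elim0 (fun k => k.elim0) linearIndependent_empty_type).comp Sum.inl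
        Sum.inl_injective).comp Sum.inl Sum.inl_injective
    rw [finrank_span_eq_card hi, Fintype.card_fin, finrank_top, hV, hD]
  exfalso
  -- the anisotropic plane
  obtain ⟨x₁, hx₁, hQx₁⟩ := exists_value (qK S) D.K D.ndK (by omega) 1 one_ne_zero
  obtain ⟨v, rfl⟩ := toKV_surj S x₁
  have hv0 : v ≠ 0 := fun e => one_ne_zero (α := Quad δ) (by rw [← hQx₁, e, map_zero, QuadraticMap.map_zero])
  have hnv : nv Q J δ v = 1 := by rw [← norm_qK S, hQx₁, map_one]
  obtain ⟨W, hWdef⟩ : ∃ W, W = ofK S D.K := ⟨_, rfl⟩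
  have hWi : Inv J W := hWdef ▸ inv_ofK S D.K
  have hWd : Module.finrank F W = 4 := by rw [hWdef, finrank_ofK, hK]
  have hWn : ND Q W := by
    rw [hWdef]
    intro a ha h
    refine (LinearEquiv.map_eq_zero_iff (toKV S)).1 (D.ndK _ ha fun y hy => ?_)
    obtain ⟨y, rfl⟩ := toKV_surj S y
    have hy' : y ∈ ofK S D.K := hy
    exact polar_qK_zero S (by rw [S.adj]; exact h (J y) (inv_ofK S D.K y hy')) (h y hy')
  have hv : v ∈ W := hWdef ▸ hx₁
  have hle := line_le hWi hv
  have hn1 : nv Q J δ v ≠ 0 := by rw [hnv]; exact one_ne_zero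
  have hLn := S.nd_line hn1
  obtain ⟨hsup, hRn⟩ := sup_perp hWn hle hLn
  have hRd := finrank_perp hWn hle
  rw [S.finrank_line hv0, hWd] at hRd
  obtain ⟨w, hw, hw0⟩ := (perp Q W (line J v)).exists_mem_ne_zero_of_ne_bot fun e => by
    rw [e, finrank_bot] at hRd; omega
  obtain ⟨hnw, hlw⟩ := S.nv_ne_of_plane (S.inv_perp hWi (S.inv_line v)) hRn (by omega) hw hw0
  have hwns : ¬ IsSquare (nv Q J δ w) := by
    intro hsq
    rw [← norm_qK S] at hsq
    obtain ⟨c, hc⟩ := (S.square_of_norm hsq).mul S.neg_one_square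
    -- a singular vector of the plane
    have hor : polar (⇑(qK S)) (toKV S v) (toKV S w) = 0 :=
      polar_qK_zero S ((mem_perp.1 hw).2 (J v) (S.inv_line v v (mem_line_self v)))
        ((mem_perp.1 hw).2 v (mem_line_self v))
    have hz : qK S (c • toKV S v + toKV S w) = 0 := by
      rw [QuadraticMap.map_add (f := qK S), QuadraticMap.map_smul, QuadraticMap.polar_smul_left, hor, hQx₁, ← hc]
      simp
    have hzK : c • toKV S v + toKV S w ∈ D.K :=
      D.K.add_mem (D.K.smul_mem _ hx₁) (by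
        have : w ∈ W := perp_le _ _ hw
        rw [hWdef] at this
        exact this)
    have hz0 := D.aniso _ hzK hz
    rw [smul_kv, ← map_add, LinearEquiv.map_eq_zero_iff] at hz0
    refine hw0 (hRn w hw fun y hy => ?_)
    have hwL : w ∈ line J v := by
      rw [eq_neg_of_add_eq_zero_right hz0]
      exact neg_mem (add_mem (Submodule.smul_mem _ _ (mem_line_self v))
        (Submodule.smul_mem _ _ (S.inv_line v v (mem_line_self v))))
    exact (mem_perp.1 hy).2 w hwL
  have hWp : ¬ Plus Q W := by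
    rw [← hsup, plus_sup_iff hLn hRn (orth_perp W (line J v)) (by rw [S.finrank_line hv0]; exact even_two)
      (Nat.even_iff.2 (by omega)), S.plus_line hn1, hnv, ← hlw, S.plus_line hnw]
    exact fun h => hwns (h.1 ⟨1, (mul_one 1).symm⟩)
  -- the hyperbolic part
  obtain ⟨hsupT, hPn⟩ := sup_perp hQ le_top hWn
  have hPd := finrank_perp hQ (le_top : W ≤ ⊤)
  rw [finrank_top, hWd, finrank_kv S, hV] at hPd
  have hPp : Plus Q (perp Q ⊤ W) := by
    refine ⟨ofK S (span (Quad δ) (Set.range D.e)), fun u hu => mem_perp.2 ⟨trivial, fun a ha => ?_⟩, fun u hu => ?_, ?_⟩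
    · rw [hWdef] at ha
      rw [← polar_qK_im S]
      have hker : span (Quad δ) (Set.range D.e) ≤ LinearMap.ker (polarBilin (qK S) (toKV S a)) := by
        rw [span_le]
        rintro _ ⟨i, rfl⟩
        show polar (⇑(qK S)) (toKV S a) (D.e i) = 0
        rw [QuadraticMap.polar_comm]
        exact D.ek i _ ha
      rw [show polar (⇑(qK S)) (toKV S a) (toKV S u) = 0 from hker hu]
      rfl
    · have e : qK S (toKV S u) = 0 := ts_span (Q := qK S) D.qe D.ee _ hu
      rw [← qK_im S, e]; rfl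
    · have hi : LinearIndependent (Quad δ) D.e :=
        ((D.indep (κ := Fin 0) Fin.elim0 (fun k => k.elim0) linearIndependent_empty_type).comp Sum.inl
          Sum.inl_injective).comp Sum.inl Sum.inl_injective
      rw [finrank_ofK, finrank_span_eq_card hi, Fintype.card_fin]
      omega
  rw [← hsupT, plus_sup_iff hWn hPn (orth_perp _ _) (by rw [hWd]; exact ⟨2, rfl⟩) (Nat.even_iff.2 (by omega))] at hp
  exact hWp (hp.2 hPp)

theorem prodQ_split {r q : ℕ} (hr : r.Prime) (hbad : ∀ j, Odd j → ¬ r ∣ q ^ (2 * j) - 1) : ∀ k : ℕ,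
    ∃ U, ¬ r ∣ U ∧ prodQ q (2 * k + 1) = prodQ (q ^ 2) k * U := by
  intro k
  induction k with
  | zero => exact ⟨q ^ (2 * 1) - 1, hbad 1 odd_one, by simp [prodQ]⟩
  | succ k ih =>
    obtain ⟨U, hU, he⟩ := ih
    refine ⟨U * (q ^ (2 * (2 * k + 3)) - 1), fun h => ?_, ?_⟩
    · rcases hr.dvd_mul.1 h with h | h
      · exact hU h
      · exact hbad _ ⟨k + 1, by ring⟩ h
    · rw [show 2 * (k + 1) + 1 = (2 * k + 1 + 1) + 1 by ring, Cfsg.Lib.Classical.OrthCard.prodQ_succ,
        Cfsg.Lib.Classical.OrthCard.prodQ_succ, he, Cfsg.Lib.Classical.OrthCard.prodQ_succ,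
        show (q ^ 2) ^ (2 * (k + 1)) = q ^ (2 * (2 * k + 1 + 1)) by rw [← pow_mul]; ring_nf,
        show 2 * (2 * k + 1 + 1 + 1) = 2 * (2 * k + 3) by ring]
      ring

/-- The index of the centralizer is prime to `r`. -/
theorem Str.card_factor (S : Str Q J δ) [Fact (∀ r : F, r ^ 2 ≠ δ + 0 * r)] (hQ : ND Q (⊤ : Submodule F V)) {d : ℕ} (hd : Module.finrank F V = 2 * d)
    (hd0 : 0 < d) {r : ℕ} (hr : r.Prime) (hrq : ¬ r ∣ Fintype.card F)
    (hbad : ∀ j, Odd j → ¬ r ∣ Fintype.card F ^ (2 * j) - 1) :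
    ∃ M, ¬ r ∣ M ∧ Nat.card (Aut Q) = Nat.card (Aut (qK S)) * M := by
  have hQ' : (polarBilin Q).Nondegenerate :=
    ⟨fun x hx => hQ x trivial fun y _ => hx y, fun x hx => hQ x trivial fun y _ => by
      rw [QuadraticMap.polar_comm]; exact hx y⟩
  have hK : Module.finrank (Quad δ) (KV S) = d := by have := finrank_kv S; omega
  have hq2 := card_quad δ
  set q := Fintype.card F with hq
  have hqc : Nat.card F = q := Nat.card_eq_fintype_card
  have hpw : ∀ n, ¬ r ∣ q ^ n := fun n h => hrq (hr.dvd_of_dvd_pow h)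
  obtain ⟨e, rfl⟩ : ∃ e, d = e + 1 := ⟨d - 1, by omega⟩
  rcases Nat.even_or_odd' (e + 1) with ⟨k, hk | hk⟩
  · obtain ⟨k, rfl⟩ : ∃ l, k = l + 1 := ⟨k - 1, by omega⟩
    obtain ⟨U, hU, hprod⟩ := prodQ_split hr hbad k
    have he : e = 2 * k + 1 := by omega
    subst he
    have hp := S.plus_iff_K hQ (k := k + 1) (by omega)
    refine ⟨q ^ (2 * ((k + 1) * (k + 1))) * U, fun h => (hr.dvd_mul.1 h).elim (hpw _) hU, ?_⟩
    rcases card_even (A := qK S) (nd_kv S hQ) (k := k) (by omega) with ⟨hpK, hcK⟩ | ⟨hpK, hcK⟩ <;>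
      rcases card_even hQ' (k := 2 * k + 1) hd with ⟨hpF, hcF⟩ | ⟨hpF, hcF⟩
    all_goals first
      | (exact absurd (hp.1 hpK) hpF)
      | (exact absurd (hp.2 hpF) hpK)
      | (rw [hcF, hcK, hq2, hqc, hprod, ← pow_mul q 2, ← pow_mul q 2, show 2 * (k + 1) = 2 * k + 1 + 1 by ring]; ring)
  · obtain ⟨U, hU, hprod⟩ : ∃ U, ¬ r ∣ U ∧ prodQ q (2 * k) = prodQ (q ^ 2) k * U := by
      rcases k with _ | k
      · exact ⟨1, fun h => hr.not_dvd_one h, by simp [prodQ]⟩
      · obtain ⟨U, hU, he⟩ := prodQ_split hr hbad k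
        refine ⟨U, hU, ?_⟩
        rw [show 2 * (k + 1) = (2 * k + 1) + 1 by ring, Cfsg.Lib.Classical.OrthCard.prodQ_succ, he,
          Cfsg.Lib.Classical.OrthCard.prodQ_succ,
          show (q ^ 2) ^ (2 * (k + 1)) = q ^ (2 * (2 * k + 1 + 1)) by rw [← pow_mul]; ring_nf]
        ring
    have he : e = 2 * k := by omega
    subst he
    have h2 : (2 : Quad δ) ≠ 0 := fun h => S.two (by
      have := congrArg QuadraticAlgebra.re h
      rw [← one_add_one_eq_two, QuadraticAlgebra.re_add, QuadraticAlgebra.re_one, one_add_one_eq_two] at this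
      exact this)
    have hcK := card_odd_dim (A := qK S) h2 (nd_kv S hQ) (k := k) (by omega)
    have hodd : Odd (2 * k + 1) := odd_two_mul_add_one k
    have hdvd : q ^ (2 * (2 * k + 1)) - 1 = (q ^ (2 * k + 1) + 1) * (q ^ (2 * k + 1) - 1) :=
      (Cfsg.Lib.Classical.OrthCard.sq_pow_sub_one q (2 * k + 1)).symm
    rcases card_even hQ' (k := 2 * k) hd with ⟨-, hcF⟩ | ⟨-, hcF⟩
    · refine ⟨q ^ (2 * (k * k + k)) * (q ^ (2 * k + 1) - 1) * U, fun h => ?_, ?_⟩
      · rcases hr.dvd_mul.1 h with h | h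
        · exact (hr.dvd_mul.1 h).elim (hpw _) fun h => hbad _ hodd (hdvd ▸ h.mul_left _)
        · exact hU h
      · rw [hcF, hcK, hq2, hqc, hprod, ← pow_mul q 2]; ring
    · refine ⟨q ^ (2 * (k * k + k)) * (q ^ (2 * k + 1) + 1) * U, fun h => ?_, ?_⟩
      · rcases hr.dvd_mul.1 h with h | h
        · exact (hr.dvd_mul.1 h).elim (hpw _) fun h => hbad _ hodd (hdvd ▸ h.mul_right _)
        · exact hU h
      · rw [hcF, hcK, hq2, hqc, hprod, ← pow_mul q 2]; ring

end Count

end Cfsg.Lib.OrthEl.Ext
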