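import Cfsg.Agent.Classical.OrthElusive.FieldExt.Setup
import Cfsg.Agent.Classical.OrthElusive.Models

/-!
# Isometries of odd prime order commuting with the field
-/

set_option autoImplicit false
set_option linter.unusedSectionVars false

open QuadraticMap Submodule Cfsg.Lib.FormNormal Polynomial
open Cfsg.Lib.Classical.PrimeOrd (Inv fix mov mem_fix)
open Cfsg.Lib.PrimeOrderPoly (factorSet)

namespace Cfsg.Lib.OrthEl.Ext

universe u v

variable {F : Type u} [Field F] [Fintype F] {V : Type v} [AddCommGroup V] [Module F V] [FiniteDimensional F V]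
  {Q : QuadraticForm F V} {J : Module.End F V} {δ : F}

/-- No displacement of rank two with singular image commutes with the field. -/
theorem Str.no_root (S : Str Q J δ) (hQ : ND Q (⊤ : Submodule F V)) {y : Module.End F V} (hiso : ∀ v, Q (y v) = Q v)
    (hcomm : ∀ v, y (J v) = J (y v)) (hr : Module.finrank F (LinearMap.range (y - 1)) = 2)
    (hts : ∀ v, Q ((y - 1) v) = 0) : False := by
  set N := y - 1 with hN
  have hy : ∀ v, y v = v + N v := fun v => by simp [hN]
  have hNJ : ∀ v, N (J v) = J (N v) := fun v => by simp [hN, hcomm]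
  have hNN : ∀ a b, polar (⇑Q) (N a) (N b) = 0 := fun a b =>
    ts_polar (U := LinearMap.range N) (by rintro _ ⟨z, rfl⟩; exact hts z) ⟨a, rfl⟩ ⟨b, rfl⟩
  have halt : ∀ a b, polar (⇑Q) (N a) b = -polar (⇑Q) a (N b) := fun a b => by
    have h : polar (⇑Q) (y a) (y b) = polar (⇑Q) a b := by simp only [polar, ← map_add, hiso]
    rw [hy, hy, QuadraticMap.polar_add_left, QuadraticMap.polar_add_right, QuadraticMap.polar_add_right, hNN] at h
    linear_combination h
  have hself : ∀ a, polar (⇑Q) (N a) a = 0 := fun a => by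
    have h := halt a a
    rw [QuadraticMap.polar_comm _ a (N a)] at h
    exact (mul_eq_zero.1 (show (2 : F) * polar (⇑Q) (N a) a = 0 by linear_combination h)).resolve_left S.two
  obtain ⟨u, hu⟩ : ∃ u, N u ≠ 0 := by
    by_contra h
    push Not at h
    rw [show LinearMap.range N = ⊥ from LinearMap.range_eq_bot.2 (LinearMap.ext h), finrank_bot] at hr
    omega
  have hJu : polar (⇑Q) (N u) (J u) = 0 := by
    have h := halt (J u) u
    rw [hNJ, S.adj, QuadraticMap.polar_comm _ (J u) (N u)] at h
    exact (mul_eq_zero.1 (show (2 : F) * polar (⇑Q) (N u) (J u) = 0 by linear_combination h)).resolve_left S.two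
  have hspan : line J (N u) = LinearMap.range N := Submodule.eq_of_le_of_finrank_eq
    (line_le (fun z hz => by obtain ⟨w, rfl⟩ := hz; exact ⟨J w, hNJ w⟩) ⟨u, rfl⟩) (by rw [hr, S.finrank_line hu])
  refine hu (hQ _ trivial fun w _ => ?_)
  obtain ⟨a, b, hab⟩ := mem_span_pair.1 (show N w ∈ line J (N u) from hspan.ge ⟨w, rfl⟩)
  have hk : N (w - a • u - b • J u) = 0 := by
    rw [map_sub, map_sub, map_smul, map_smul, hNJ, ← hab]; abel
  have h := halt u (w - a • u - b • J u)
  rw [hk, QuadraticMap.polar_zero_right, neg_zero, QuadraticMap.polar_sub_right, QuadraticMap.polar_sub_right,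
    QuadraticMap.polar_smul_right, QuadraticMap.polar_smul_right, hself, hJu, smul_zero, smul_zero, sub_zero, sub_zero] at h
  exact h

theorem comm_aeval {y : Module.End F V} (hcomm : ∀ v, y (J v) = J (y v)) (P : F[X]) (v : V) :
    aeval y P (J v) = J (aeval y P v) := by
  induction P using Polynomial.induction_on' generalizing v with
  | add P R hP hR => simp only [map_add, LinearMap.add_apply, hP, hR]
  | monomial k a =>
    have hk : ∀ (j : ℕ) (w : V), (y ^ j) (J w) = J ((y ^ j) w) := fun j => by
      induction j with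
      | zero => intro w; simp
      | succ j ih => intro w; rw [pow_succ', Module.End.mul_apply, Module.End.mul_apply, ih, hcomm]
    rw [aeval_monomial, Module.End.mul_apply, Module.End.mul_apply, Module.algebraMap_end_apply,
      Module.algebraMap_end_apply, map_smul, hk]

variable {p r : ℕ} [Fact p.Prime] [CharP F p] [Fact r.Prime]

/-- Invariant subspaces of odd dimension do not exist. -/
theorem Str.even_finrank (S : Str Q J δ) {W : Submodule F V} (hW : Inv J W) : Even (Module.finrank F W) := by
  rcases Nat.even_or_odd (Module.finrank F W) with h | ⟨k, hk⟩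
  · exact h
  exfalso
  have h2 : (J.restrict (show ∀ w ∈ W, J w ∈ W from fun w hw => hW w hw)) ^ 2 = δ • 1 :=
    LinearMap.ext fun w => Subtype.ext (by rw [_root_.sq]; exact S.sq w)
  have h3 := congrArg LinearMap.det h2
  rw [map_pow, LinearMap.det_smul, map_one, mul_one, hk] at h3
  refine S.noroot ⟨LinearMap.det (J.restrict (show ∀ w ∈ W, J w ∈ W from fun w hw => hW w hw)) / δ ^ k, ?_⟩
  have := S.delta_ne
  field_simp
  linear_combination -h3

include p in
/-- The moved space of a commuting element is not an atom. -/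
theorem Str.no_atom (S : Str Q J δ) (hQ : ND Q (⊤ : Submodule F V)) {y : Module.End F V} (hy : RIsom Q r y)
    (hcomm : ∀ v, y (J v) = J (y v)) (hr2 : r ≠ 2) (hrp : r ≠ p) {i : ℕ}
    (hi : i = orderOf (Fintype.card F : ZMod r))
    (hd : Module.finrank F (mov y) = if Even i then i else 2 * i) (hcase : ¬ Even i ∨ i % 4 = 2) : False := by
  subst hi
  set i := orderOf (Fintype.card F : ZMod r) with hi
  have hrc := r_cast_ne (p := p) (F := F) hrp
  have hqr := Cfsg.Lib.Classical.PrimeOrd.not_dvd_card (F := F) (p := p) (Fact.out : r.Prime) hrp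
  have hpos : 0 < i := Cfsg.Lib.Classical.PrimeOrd.ord_pos hqr
  obtain ⟨-, hE⟩ := hy.nd_fix hrc hQ
  set E := mov y with hEdef
  have hEJ : Inv J E := by
    rintro _ ⟨v, rfl⟩
    exact ⟨J v, by simp [hcomm]⟩
  have hE0 : E ≠ ⊥ := fun e => by rw [e, finrank_bot] at hd; split_ifs at hd <;> omega
  obtain ⟨g, hg, hg0⟩ := exists_factor (p := p) hy hrp hE.inv le_rfl hE0
  obtain ⟨hgi, hgdeg, -, -⟩ := factor_facts' (p := p) hrp hg
  haveI := Fact.mk hgi
  set W := E ⊓ LinearMap.ker (aeval y g) with hWdef
  have hWJ : Inv J W := fun w hw => ⟨hEJ w hw.1, by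
    rw [SetLike.mem_coe, LinearMap.mem_ker, comm_aeval hcomm, show aeval y g w = 0 from hw.2, map_zero]⟩
  have hWy : Inv y W := inv_part hE.inv g
  have hWfree : W ⊓ fix y = ⊥ := eq_bot_iff.2 ((inf_le_inf_right _ inf_le_left).trans hE.free.le)
  obtain ⟨t, ht⟩ := Cfsg.Lib.Classical.PrimeOrd.dvd_of_fpf hy.pow hWy hWfree
  rw [← hi] at ht
  have ht0 : 0 < t := Nat.pos_of_ne_zero fun e => hg0 (Submodule.finrank_eq_zero.1 (by rw [ht, e, mul_zero]))
  rcases Decidable.em (Even i) with hev | hev
  · -- one cyclic piece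
    have h4 : i % 4 = 2 := hcase.resolve_left (fun h => h hev)
    rw [if_pos hev] at hd
    have hWE : W = E := Submodule.eq_of_le_of_finrank_le inf_le_left (by
      rw [hd, ht]; exact Nat.le_mul_of_pos_right _ ht0)
    have hk : ∀ w ∈ W, aeval y g w = 0 := fun w hw => hw.2
    obtain ⟨w, hw, hw0⟩ := W.exists_mem_ne_zero_of_ne_bot hg0
    have hw1 : (⟨w, hw⟩ : W) ≠ 0 := fun e => hw0 (congrArg Subtype.val e)
    have hcyc : cyc g hWy hk ⟨w, hw⟩ = W := Submodule.eq_of_le_of_finrank_le (cyc_le _ _ _) (by
      rw [finrank_cyc hWy hk hw1, hgdeg, hWE, hd])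
    obtain ⟨k, hkw⟩ : ∃ k, (act g hWy hk k ⟨w, hw⟩ : V) = J w := hcyc.ge (hWJ w hw)
    have hJk : ∀ z : W, J (z : V) = act g hWy hk k z := fun z => by
      obtain ⟨l, hl⟩ : ∃ l, (act g hWy hk l ⟨w, hw⟩ : V) = z := hcyc.ge z.2
      have hz : act g hWy hk l ⟨w, hw⟩ = z := Subtype.ext hl
      rw [← hl]
      conv_rhs => rw [← hz, ← Module.End.mul_apply, ← map_mul, mul_comm, map_mul, Module.End.mul_apply]
      obtain ⟨P, rfl⟩ := AdjoinRoot.mk_surjective l
      rw [act_mk, act_mk, ← comm_aeval hcomm, ← hkw]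
    have hh := half_dvd hqr hev
    have hfrob : frob g (i / 2) k = k := by
      refine act_injective hWy hk hw1 ?_
      refine Subtype.ext (sub_eq_zero.1 ?_)
      refine hE.nd _ (E.sub_mem (Subtype.coe_prop _ : _ ∈ W).1 (Subtype.coe_prop _ : _ ∈ W).1) fun z hz => ?_
      rw [← hWE] at hz
      rw [QuadraticMap.polar_comm, QuadraticMap.polar_sub_right,
        ← adjoint_act (p := p) hy hrp hg hWy hk hh k ⟨z, hz⟩ ⟨w, hw⟩, ← hJk, ← hJk, S.adj, sub_self]
    have hkk : k * k = algebraMap F (AdjoinRoot g) δ := by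
      refine act_injective hWy hk hw1 (Subtype.ext ?_)
      show (act g hWy hk (k * k) ⟨w, hw⟩ : V) = (act g hWy hk (algebraMap F (AdjoinRoot g) δ) ⟨w, hw⟩ : V)
      rw [map_mul, Module.End.mul_apply, ← hJk, ← hJk, AlgHom.commutes, Module.algebraMap_end_apply]
      exact S.sq w
    have hk0 : k ≠ 0 := fun e => S.delta_ne ((algebraMap F (AdjoinRoot g)).injective (by rw [← hkk, e, mul_zero, map_zero]))
    have h2 := S.two
    have hq2 : ringChar F ≠ 2 := fun e => h2 (by
      haveI := ringChar.of_eq e; exact CharTwo.two_eq_zero)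
    have hδ : δ ^ (Fintype.card F / 2) = -1 := (FiniteField.pow_dichotomy hq2 S.delta_ne).resolve_left
      fun e => S.noroot ((FiniteField.isSquare_iff hq2 S.delta_ne).2 e)
    have hq : k ^ Fintype.card F = -k := by
      have ho := FiniteField.odd_card_of_char_ne_two hq2
      rw [show Fintype.card F = 2 * (Fintype.card F / 2) + 1 by omega, pow_succ, pow_mul, _root_.sq, hkk, ← map_pow, hδ,
        map_neg, map_one, neg_one_mul]
    have hodd : Odd (Fintype.card F) := Nat.odd_iff.2 (FiniteField.odd_card_of_char_ne_two hq2)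
    have hpw : ∀ m, k ^ (Fintype.card F ^ m) = (-1) ^ m * k := fun m => by
      induction m with
      | zero => simp
      | succ m ih => rw [pow_succ, pow_mul, ih, mul_pow, hq, ← pow_mul, mul_comm m, pow_mul, hodd.neg_one_pow]; ring
    rw [frob_apply, hpw, (show Odd (i / 2) by rw [Nat.odd_iff]; omega).neg_one_pow] at hfrob
    have h20 : (2 : AdjoinRoot g) * k = 0 := by linear_combination -hfrob
    refine h2 ((algebraMap F (AdjoinRoot g)).injective ?_)
    rw [map_ofNat, map_zero]
    exact (mul_eq_zero.1 h20).resolve_right hk0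
  · -- two singular pieces
    rw [if_neg hev] at hd
    have hndv : ¬ g ∣ g.comp (X ^ (r - 1)) := fun h => hev (even_of_inverse (p := p) hr2 hrp hg h)
    have hpol : ∀ a ∈ W, ∀ b ∈ W, polar (⇑Q) a b = 0 := by
      intro a ha b hb
      obtain ⟨c, e, hce⟩ := hgi.coprime_iff_not_dvd.2 hndv
      have hb' : aeval y (g.comp (X ^ (r - 1))) (aeval y e b) = b := by
        have h := congrArg (fun P => aeval y P b) hce
        simp only [map_add, map_mul, map_one, LinearMap.add_apply, Module.End.mul_apply, Module.End.one_apply,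
          show aeval y g b = 0 from hb.2, map_zero, zero_add] at h
        rw [← Module.End.mul_apply, ← map_mul, mul_comm, map_mul, Module.End.mul_apply]
        exact h
      have hcomp : aeval (y ^ (r - 1)) g = aeval y (g.comp (X ^ (r - 1))) := by rw [aeval_comp, map_pow, aeval_X]
      rw [← hb', ← hcomp, ← hy.adjoint_aeval r_pos, show aeval y g a = 0 from ha.2, QuadraticMap.polar_zero_left]
    have hperp : W ≤ perp Q E W := fun a ha => mem_perp.2 ⟨ha.1, fun b hb => hpol b hb a ha⟩
    have h1 := finrank_perp hE.nd (inf_le_left : W ≤ E)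
    have h2 := Submodule.finrank_mono hperp
    rw [← hWdef] at h1
    have ht1 : t = 1 := by
      by_contra hne
      have : 2 * i ≤ i * t := by
        rw [mul_comm 2 i]
        exact Nat.mul_le_mul_left i (by omega)
      omega
    rw [ht1, mul_one] at ht
    exact hev (ht ▸ S.even_finrank hWJ)

end Cfsg.Lib.OrthEl.Ext
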