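import Cfsg.Agent.Classical.OrthElusive.FieldExt.Setup

/-!
# The space over the extension field
-/

set_option autoImplicit false
set_option linter.unusedSectionVars false
set_option linter.style.haveILetI false

open QuadraticMap Submodule Cfsg.Lib.FormNormal
open Cfsg.Lib.Classical.PrimeOrd (Inv)

namespace Cfsg.Lib.OrthEl.Ext

universe u v

variable {F : Type u} [Field F] [Fintype F] {V : Type v} [AddCommGroup V] [Module F V] [FiniteDimensional F V]

/-- The quadratic extension. -/
abbrev Quad (δ : F) : Type u := QuadraticAlgebra F δ 0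

variable {Q : QuadraticForm F V} {J : Module.End F V} {δ : F}

theorem Str.fact (S : Str Q J δ) : Fact (∀ r : F, r ^ 2 ≠ δ + 0 * r) :=
  ⟨fun r h => S.noroot ⟨r, by linear_combination -h⟩⟩

instance (δ : F) : Finite (Quad δ) := Module.finite_of_finite F

theorem card_quad (δ : F) : Nat.card (Quad δ) = Fintype.card F ^ 2 := by
  rw [Module.natCard_eq_pow_finrank (K := F), QuadraticAlgebra.finrank_eq_two, Nat.card_eq_fintype_card]

theorem norm_quad (δ : F) (z : Quad δ) : QuadraticAlgebra.norm z = z.re ^ 2 - δ * z.im ^ 2 := by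
  rw [QuadraticAlgebra.norm_def]; ring

/-- Some norm is a nonsquare. -/
theorem exists_norm_nonsquare (h2 : (2 : F) ≠ 0) {δ : F} (hδ : δ ≠ 0) :
    ∃ ν : Quad δ, ¬ IsSquare (QuadraticAlgebra.norm ν) := by
  obtain ⟨ε, hε⟩ := FiniteField.exists_nonsquare (F := F) (by
    rw [Ne, ringChar.eq_iff]; intro h; exact h2 (CharTwo.two_eq_zero (R := F)))
  obtain ⟨a, b, hab⟩ := FiniteField.exists_root_sum_quadratic (R := F) (f := Polynomial.X ^ 2)
    (g := Polynomial.C (-δ) * Polynomial.X ^ 2 + Polynomial.C (-ε)) (Polynomial.degree_X_pow 2) (by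
      rw [Polynomial.degree_add_C (by rw [Polynomial.degree_C_mul_X_pow _ (neg_ne_zero.2 hδ)]; norm_num),
        Polynomial.degree_C_mul_X_pow _ (neg_ne_zero.2 hδ)]
      norm_num) (by
      refine FiniteField.odd_card_of_char_ne_two ?_
      rw [Ne, ringChar.eq_iff]; intro h; exact h2 (CharTwo.two_eq_zero (R := F)))
  refine ⟨⟨a, b⟩, ?_⟩
  rw [norm_quad]
  simp only [Polynomial.eval_add, Polynomial.eval_mul, Polynomial.eval_C, Polynomial.eval_pow, Polynomial.eval_X] at hab
  rwa [show a ^ 2 - δ * b ^ 2 = ε by linear_combination hab]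

/-- An element with square norm is a square. -/
theorem Str.square_of_norm (S : Str Q J δ) {c : Quad δ} (hc : IsSquare (QuadraticAlgebra.norm c)) : IsSquare c := by
  classical
  haveI := S.fact
  haveI := Fintype.ofFinite (Quad δ)
  by_contra hns
  obtain ⟨ν, hν⟩ := exists_norm_nonsquare S.two S.delta_ne
  have hνq : ¬ IsSquare ν := fun h => hν (h.map QuadraticAlgebra.norm)
  have hν0 : ν ≠ 0 := fun h => hνq (h ▸ ⟨0, (mul_zero 0).symm⟩)
  have hc0 : c ≠ 0 := fun h => hns (h ▸ ⟨0, (mul_zero 0).symm⟩)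
  have hprod : IsSquare (c * ν) := by
    rw [← quadraticChar_one_iff_isSquare (mul_ne_zero hc0 hν0), map_mul,
      quadraticChar_neg_one_iff_not_isSquare.2 hns, quadraticChar_neg_one_iff_not_isSquare.2 hνq]
    norm_num
  obtain ⟨m, hm⟩ := hprod.map QuadraticAlgebra.norm
  obtain ⟨k, hk⟩ := hc
  have hk0 : k ≠ 0 := fun h => hc0 (QuadraticAlgebra.norm_eq_zero_iff_eq_zero.1 (by rw [hk, h, mul_zero]))
  rw [map_mul, hk] at hm
  refine hν ⟨m / k, ?_⟩
  field_simp
  linear_combination hm

/-- Minus one is a square in the extension. -/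
theorem Str.neg_one_square (S : Str Q J δ) : IsSquare (-1 : Quad δ) :=
  S.square_of_norm ⟨1, by rw [QuadraticAlgebra.norm_neg, map_one, mul_one]⟩

/-- The space, seen over the extension. -/
def KV (_S : Str Q J δ) : Type v := V

variable (S : Str Q J δ)

instance : AddCommGroup (KV S) := inferInstanceAs (AddCommGroup V)
instance : Module F (KV S) := inferInstanceAs (Module F V)
instance : FiniteDimensional F (KV S) := inferInstanceAs (FiniteDimensional F V)

/-- The identity onto the space over the extension. -/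
def toKV : V ≃ₗ[F] KV S := LinearEquiv.refl F V

/-- The extension acting. -/
noncomputable def kHom : Quad δ →ₐ[F] Module.End F (KV S) :=
  QuadraticAlgebra.lift ⟨(toKV S).toLinearMap ∘ₗ J ∘ₗ (toKV S).symm.toLinearMap, LinearMap.ext fun v => by
    simp only [zero_smul, add_zero, LinearMap.smul_apply, Module.End.one_apply, Module.End.mul_apply,
      LinearMap.comp_apply, LinearEquiv.coe_coe, LinearEquiv.symm_apply_apply, S.sq, map_smul,
      LinearEquiv.apply_symm_apply]⟩

noncomputable instance : Module (Quad δ) (KV S) := Module.compHom (KV S) (kHom S).toRingHom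

theorem smul_kv (c : Quad δ) (v : V) : c • toKV S v = toKV S (c.re • v + c.im • J v) := by
  show kHom S c (toKV S v) = _
  simp [kHom, QuadraticAlgebra.lift]

instance : IsScalarTower F (Quad δ) (KV S) :=
  ⟨fun a c v => by
    show kHom S (a • c) v = a • kHom S c v
    rw [map_smul, LinearMap.smul_apply]⟩

instance : Module.Finite (Quad δ) (KV S) := Module.Finite.of_restrictScalars_finite F (Quad δ) (KV S)

theorem toKV_surj : ∀ v : KV S, ∃ w : V, toKV S w = v := fun v => ⟨v, rfl⟩

/-- The form over the extension, as a bilinear map. -/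
noncomputable def kBil : LinearMap.BilinForm (Quad δ) (KV S) :=
  LinearMap.mk₂ (Quad δ)
    (fun u v => (⟨polar (⇑Q) (J ((toKV S).symm u)) ((toKV S).symm v) / 2,
      polar (⇑Q) ((toKV S).symm u) ((toKV S).symm v) / 2⟩ : Quad δ))
    (fun u u' v => by ext <;> simp [QuadraticMap.polar_add_left, add_div])
    (fun c u v => by
      obtain ⟨u, rfl⟩ := toKV_surj S u
      rw [smul_kv, LinearEquiv.symm_apply_apply, LinearEquiv.symm_apply_apply]
      ext <;> simp only [map_add, map_smul, S.sq, QuadraticMap.polar_add_left, QuadraticMap.polar_smul_left, smul_eq_mul,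
        QuadraticAlgebra.re_mul, QuadraticAlgebra.im_mul] <;> ring)
    (fun u v v' => by ext <;> simp [QuadraticMap.polar_add_right, add_div])
    (fun c u v => by
      obtain ⟨v, rfl⟩ := toKV_surj S v
      rw [smul_kv, LinearEquiv.symm_apply_apply, LinearEquiv.symm_apply_apply]
      ext <;> simp only [QuadraticMap.polar_add_right, QuadraticMap.polar_smul_right, smul_eq_mul,
        QuadraticAlgebra.re_mul, QuadraticAlgebra.im_mul, ← S.adj, S.sq, QuadraticMap.polar_smul_left] <;> ring)

/-- The quadratic form over the extension. -/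
noncomputable def qK : QuadraticForm (Quad δ) (KV S) := LinearMap.BilinMap.toQuadraticMap (kBil S)

theorem qK_apply (v : V) : qK S (toKV S v) = ⟨polar (⇑Q) (J v) v / 2, Q v⟩ := by
  show kBil S (toKV S v) (toKV S v) = _
  ext
  · simp [kBil]
  · simp [kBil, FormNormal.polar_self', S.two]

theorem norm_qK (v : V) : QuadraticAlgebra.norm (qK S (toKV S v)) = nv Q J δ v := by
  rw [qK_apply, norm_quad]; rfl

theorem polar_qK_im (u v : V) : (polar (⇑(qK S)) (toKV S u) (toKV S v)).im = polar (⇑Q) u v := by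
  simp only [polar, ← map_add, qK_apply, QuadraticAlgebra.im_sub]

theorem polar_qK_re (u v : V) : (polar (⇑(qK S)) (toKV S u) (toKV S v)).re = polar (⇑Q) (J u) v := by
  rw [qK, LinearMap.BilinMap.polar_toQuadraticMap]
  have h' : polar (⇑Q) (J v) u = polar (⇑Q) (J u) v := by rw [S.adj, QuadraticMap.polar_comm]
  have h2 := S.two
  simp [kBil, h']
  rw [← add_div, ← two_mul, mul_div_assoc, mul_div_cancel₀ _ h2]

theorem polar_qK_zero {u v : V} (h1 : polar (⇑Q) (J u) v = 0) (h2 : polar (⇑Q) u v = 0) :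
    polar (⇑(qK S)) (toKV S u) (toKV S v) = 0 :=
  QuadraticAlgebra.ext ((polar_qK_re S u v).trans h1) ((polar_qK_im S u v).trans h2)

theorem qK_im (v : V) : (qK S (toKV S v)).im = Q v := by rw [qK_apply]

/-- An invariant subspace over the extension. -/
noncomputable def toK (W : Submodule F V) (hW : Inv J W) : Submodule (Quad δ) (KV S) where
  carrier := {v | (toKV S).symm v ∈ W}
  add_mem' {a b} ha hb := by simp only [Set.mem_setOf_eq, map_add] at ha hb ⊢; exact W.add_mem ha hb
  zero_mem' := by simp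
  smul_mem' c v hv := by
    obtain ⟨w, rfl⟩ := toKV_surj S v
    simp only [Set.mem_setOf_eq, LinearEquiv.symm_apply_apply] at hv
    rw [Set.mem_setOf_eq, smul_kv, LinearEquiv.symm_apply_apply]
    exact W.add_mem (W.smul_mem _ hv) (W.smul_mem _ (hW w hv))

theorem mem_toK {W : Submodule F V} {hW : Inv J W} {w : V} : toKV S w ∈ toK S W hW ↔ w ∈ W := by
  show (toKV S).symm (toKV S w) ∈ W ↔ _
  rw [LinearEquiv.symm_apply_apply]

/-- A subspace over the extension, back over the field. -/
noncomputable def ofK (U : Submodule (Quad δ) (KV S)) : Submodule F V := (U.restrictScalars F).comap (toKV S).toLinearMap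

theorem mem_ofK {U : Submodule (Quad δ) (KV S)} {v : V} : v ∈ ofK S U ↔ toKV S v ∈ U := Iff.rfl

section Field

variable [Fact (∀ r : F, r ^ 2 ≠ δ + 0 * r)]

theorem finrank_ofK (U : Submodule (Quad δ) (KV S)) :
    Module.finrank F (ofK S U) = 2 * Module.finrank (Quad δ) U := by
  haveI := S.fact
  rw [ofK, Submodule.comap_equiv_eq_map_symm, LinearEquiv.finrank_map_eq,
    show Module.finrank F (U.restrictScalars F) = Module.finrank F U from rfl,
    ← Module.finrank_mul_finrank F (Quad δ) U, QuadraticAlgebra.finrank_eq_two]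

theorem inv_ofK (U : Submodule (Quad δ) (KV S)) : Inv J (ofK S U) := fun v hv => by
  have e : (⟨0, 1⟩ : Quad δ) • toKV S v = toKV S (J v) := by rw [smul_kv]; simp
  show toKV S (J v) ∈ U
  rw [← e]
  exact U.smul_mem _ hv

theorem finrank_kv : Module.finrank F V = 2 * Module.finrank (Quad δ) (KV S) := by
  haveI := S.fact
  rw [show Module.finrank F V = Module.finrank F (KV S) from rfl, ← Module.finrank_mul_finrank F (Quad δ) (KV S),
    QuadraticAlgebra.finrank_eq_two]

theorem nd_toK {W : Submodule F V} {hW : Inv J W} (hn : ND Q W) : ND (qK S) (toK S W hW) := by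
  intro x hx h
  obtain ⟨x, rfl⟩ := toKV_surj S x
  rw [hn x ((mem_toK S).1 hx) fun y hy => by
    rw [← polar_qK_im S, h _ ((mem_toK S).2 hy)]; rfl]
  exact map_zero _

theorem nd_kv (hQ : ND Q (⊤ : Submodule F V)) : (polarBilin (qK S)).Nondegenerate := by
  have h : ∀ x : KV S, (∀ y, polar (⇑(qK S)) x y = 0) → x = 0 := fun x hx => by
    obtain ⟨x, rfl⟩ := toKV_surj S x
    rw [hQ x trivial fun y _ => by rw [← polar_qK_im S, hx]; rfl]
    exact map_zero _
  exact ⟨fun x hx => h x hx, fun x hx => h x fun y => by rw [QuadraticMap.polar_comm]; exact hx y⟩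

theorem ofK_toK {W : Submodule F V} (hW : Inv J W) : ofK S (toK S W hW) = W := by
  ext v; exact mem_toK S (hW := hW)

end Field

variable {S}

theorem Str.exists_type (S : Str Q J δ) {U : Submodule F V} (hU : Inv J U) (hn : ND Q U)
    (hd : 4 ≤ Module.finrank F U) (b : Prop) :
    ∃ v ∈ U, nv Q J δ v ≠ 0 ∧ (IsSquare (nv Q J δ v) ↔ b) := by
  classical
  haveI := S.fact
  have hd' : 2 ≤ Module.finrank (Quad δ) (toK S U hU) := by
    have := finrank_ofK S (toK S U hU)
    rw [ofK_toK] at this
    omega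
  obtain ⟨ν, hν⟩ := exists_norm_nonsquare S.two S.delta_ne
  have hν0 : ν ≠ 0 := fun h => hν (h ▸ ⟨0, by rw [QuadraticAlgebra.norm_zero, mul_zero]⟩)
  obtain ⟨x, hx, hQx⟩ := exists_value (qK S) _ (nd_toK S hn) hd' (if b then 1 else ν)
    (by split_ifs; exacts [one_ne_zero, hν0])
  obtain ⟨x, rfl⟩ := toKV_surj S x
  refine ⟨x, (mem_toK S).1 hx, ?_, ?_⟩
  · rw [← norm_qK S, hQx, Ne, QuadraticAlgebra.norm_eq_zero_iff_eq_zero]
    split_ifs
    exacts [one_ne_zero, hν0]
  · rw [← norm_qK S, hQx]
    split_ifs with hb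
    · exact iff_of_true ⟨1, by rw [map_one, mul_one]⟩ hb
    · exact iff_of_false hν hb

end Cfsg.Lib.OrthEl.Ext
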