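import Cfsg.Agent.Classical.OrthElusive.FieldExt.Setup
import Cfsg.Prelude.Def_GeometricClasses

/-!
# The normalizer of the field of matrices
-/

set_option autoImplicit false
set_option linter.unusedSectionVars false

open QuadraticMap Submodule Cfsg.Lib.FormNormal
open scoped Matrix

namespace Cfsg.Lib.OrthEl.Ext

universe u

variable {F : Type u} [Field F] [Fintype F] {ι : Type} [Fintype ι] [DecidableEq ι] {Q : QuadraticForm F (ι → F)}

theorem two_gens {V : Type*} [AddCommGroup V] [Module F V] {K : Submodule F V} (hK : Module.finrank F K = 2) {e : V}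
    (he : e ∈ K) (he0 : e ≠ 0) :
    ∃ k ∈ K, LinearIndependent F ![e, k] ∧ ∀ x ∈ K, ∃ c d : F, x = c • e + d • k := by
  haveI : Module.Finite F K := Module.finite_of_finrank_pos (by omega)
  obtain ⟨k, hk, hke⟩ : ∃ k ∈ K, k ∉ Submodule.span F {e} := by
    by_contra h
    push Not at h
    have := Submodule.finrank_mono (show K ≤ Submodule.span F {e} from h)
    rw [finrank_span_singleton he0] at this
    omega
  have hli : LinearIndependent F ![e, k] := LinearIndependent.pair_iff.mpr fun c d h => by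
    by_cases hd : d = 0
    · subst hd
      rw [zero_smul, add_zero, smul_eq_zero] at h
      exact ⟨h.resolve_right he0, rfl⟩
    · refine absurd (Submodule.mem_span_singleton.mpr ⟨-c / d, ?_⟩) hke
      have : k = d⁻¹ • (-(c • e)) := by
        rw [show -(c • e) = d • k by linear_combination (norm := module) -h, smul_smul, inv_mul_cancel₀ hd, one_smul]
      rw [this]
      module
  refine ⟨k, hk, hli, fun x hx => ?_⟩
  have heq : Submodule.span F (Set.range ![e, k]) = K :=
    Submodule.eq_of_le_of_finrank_le (Submodule.span_le.mpr (by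
      rintro _ ⟨i, rfl⟩; fin_cases i; exacts [he, hk]))
      (by rw [finrank_span_eq_card hli, Fintype.card_fin, hK])
  rw [← heq, Matrix.range_cons_cons_empty] at hx
  obtain ⟨c, d, h⟩ := Submodule.mem_span_pair.mp hx
  exact ⟨c, d, h.symm⟩

/-- A generator of a quadratic field of matrices. -/
structure Gen (K : Subalgebra F (Matrix ι ι F)) (J : Matrix ι ι F) (δ : F) : Prop where
  field : Cfsg.Geo.IsFieldSubalgebra 2 K
  mem : J ∈ K
  sq : J * J = δ • 1
  ne : δ ≠ 0
  gen : ∀ a ∈ K, ∃ s t : F, a = s • (1 : Matrix ι ι F) + t • J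

theorem exists_gen [Nonempty ι] (h2 : (2 : F) ≠ 0) {K : Subalgebra F (Matrix ι ι F)}
    (hA : Cfsg.Geo.IsFieldSubalgebra 2 K) (hK : Cfsg.Geo.IsSelfAdjointFor (polar (⇑Q)) K) :
    ∃ J δ, Gen K J δ ∧ Str Q (Matrix.toLin' J) δ := by
  classical
  obtain ⟨k₀, hk₀, hli₀, hgen₀⟩ := two_gens (K := Subalgebra.toSubmodule K) hA.finrank_eq
    (e := 1) K.one_mem one_ne_zero
  obtain ⟨b₀, a₀, hab⟩ := hgen₀ (k₀ * k₀) (K.mul_mem hk₀ hk₀)
  set k := k₀ - (a₀ / 2) • (1 : Matrix ι ι F) with hkdef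
  have hk : k ∈ K := K.sub_mem hk₀ (K.smul_mem K.one_mem _)
  set β := b₀ + (a₀ / 2) * (a₀ / 2) with hβ
  have hkk : k * k = β • 1 := by
    simp only [hkdef, sub_mul, mul_sub, smul_mul_assoc, mul_smul_comm, one_mul, mul_one, hab]
    rw [hβ]
    match_scalars <;> field_simp <;> ring
  have hli : LinearIndependent F ![1, k] := LinearIndependent.pair_iff.mpr fun c d' h => by
    obtain ⟨e1, e2⟩ := LinearIndependent.pair_iff.mp hli₀ (c - d' * (a₀ / 2)) d' (by rw [← h, hkdef]; module)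
    subst e2
    exact ⟨by linear_combination e1, rfl⟩
  have hnoroot : ¬ IsSquare β := by
    rintro ⟨r, hr⟩
    have hne : ∀ s : F, k - s • 1 ≠ 0 := fun s h =>
      one_ne_zero (LinearIndependent.pair_iff.mp hli (-s) 1 (by rw [← h]; module)).2
    obtain ⟨y, -, hy⟩ := hA.inv _ (K.sub_mem hk (K.smul_mem K.one_mem r)) (hne r)
    apply hne (-r)
    have e : (k - (-r) • 1) * (k - r • 1) = 0 := by
      simp only [sub_mul, mul_sub, smul_mul_assoc, mul_smul_comm, one_mul, mul_one, hkk, hr]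
      module
    have e' : k - (-r) • 1 = (k - (-r) • 1) * ((k - r • 1) * y) := by rw [hy, mul_one]
    rw [e', ← mul_assoc, e, zero_mul]
  refine ⟨k, β, ⟨hA, hk, hkk, fun h => hnoroot (h ▸ ⟨0, (mul_zero 0).symm⟩), fun x hx => ?_⟩,
    ⟨h2, fun v => ?_, hnoroot, fun u v => ?_⟩⟩
  · obtain ⟨c, d', rfl⟩ := hgen₀ x hx
    exact ⟨c + d' * (a₀ / 2), d', by rw [hkdef]; module⟩
  · rw [Matrix.toLin'_apply, Matrix.toLin'_apply, Matrix.mulVec_mulVec, hkk, Matrix.smul_mulVec, Matrix.one_mulVec]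
  · rw [Matrix.toLin'_apply, Matrix.toLin'_apply]
    exact hK k hk u v

variable {K : Subalgebra F (Matrix ι ι F)} {J : Matrix ι ι F} {δ : F}

theorem gl_cancel (g : GL ι F) :
    (g : Matrix ι ι F) * ((g⁻¹ : GL ι F) : Matrix ι ι F) = 1 ∧
      ((g⁻¹ : GL ι F) : Matrix ι ι F) * (g : Matrix ι ι F) = 1 :=
  ⟨by rw [← Units.val_mul, mul_inv_cancel, Units.val_one], by rw [← Units.val_mul, inv_mul_cancel, Units.val_one]⟩

/-- The normalizer: linear or semilinear maps. -/
theorem Gen.norm_iff (S : Gen K J δ) {g : GL ι F} :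
    g ∈ Cfsg.Geo.subalgebraNormalizer K ↔
      ((g : Matrix ι ι F) * J = J * (g : Matrix ι ι F) ∨ (g : Matrix ι ι F) * J = -(J * (g : Matrix ι ι F))) := by
  obtain ⟨h1, h2⟩ := gl_cancel g
  constructor
  · intro hg
    set J' := (g : Matrix ι ι F) * J * ((g⁻¹ : GL ι F) : Matrix ι ι F) with hJ'
    have hJ'K : J' ∈ K := (hg J).mp S.mem
    have hsq : J' * J' = δ • 1 := by
      rw [hJ', show (g : Matrix ι ι F) * J * ((g⁻¹ : GL ι F) : Matrix ι ι F) *
          ((g : Matrix ι ι F) * J * ((g⁻¹ : GL ι F) : Matrix ι ι F)) =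
          (g : Matrix ι ι F) * J * (((g⁻¹ : GL ι F) : Matrix ι ι F) * (g : Matrix ι ι F)) * J *
            ((g⁻¹ : GL ι F) : Matrix ι ι F) by simp only [mul_assoc], h2, mul_one,
        mul_assoc (g : Matrix ι ι F), S.sq, mul_smul_comm, mul_one, smul_mul_assoc, h1]
    have hprod : (J' - J) * (J' + J) = 0 := by
      rw [sub_mul, mul_add, mul_add, hsq, S.sq, S.field.comm J S.mem J' hJ'K]; abel
    have hgJ : (g : Matrix ι ι F) * J = J' * (g : Matrix ι ι F) := by rw [hJ', mul_assoc, h2, mul_one]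
    by_cases h : J' - J = 0
    · left; rw [hgJ, sub_eq_zero.mp h]
    · right
      obtain ⟨y, hy, hyy⟩ := S.field.inv _ (K.sub_mem hJ'K S.mem) h
      have hyy' : y * (J' - J) = 1 := by rw [S.field.comm y hy _ (K.sub_mem hJ'K S.mem), hyy]
      have h0 : J' + J = 0 := by rw [← one_mul (J' + J), ← hyy', mul_assoc, hprod, mul_zero]
      rw [hgJ, eq_neg_of_add_eq_zero_left h0, neg_mul]
  intro hg
  obtain ⟨ε, hε, hg⟩ : ∃ ε : F, ε * ε = 1 ∧ (g : Matrix ι ι F) * J = ε • (J * (g : Matrix ι ι F)) := by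
    rcases hg with h | h
    · exact ⟨1, one_mul 1, by rw [one_smul, h]⟩
    · exact ⟨-1, by ring, by rw [neg_one_smul, h]⟩
  have conjJ : (g : Matrix ι ι F) * J * ((g⁻¹ : GL ι F) : Matrix ι ι F) = ε • J := by
    rw [hg, smul_mul_assoc, mul_assoc, h1, mul_one]
  have conjJ' : ((g⁻¹ : GL ι F) : Matrix ι ι F) * J * (g : Matrix ι ι F) = ε • J := by
    have e : J = ε • ((g : Matrix ι ι F) * J * ((g⁻¹ : GL ι F) : Matrix ι ι F)) := by
      rw [conjJ, smul_smul, hε, one_smul]
    conv_lhs => rw [e]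
    simp only [mul_smul_comm, smul_mul_assoc, mul_assoc, h2, mul_one]
    rw [← mul_assoc, h2, one_mul]
  intro a
  constructor
  · intro ha
    obtain ⟨s, t, rfl⟩ := S.gen a ha
    rw [mul_add, add_mul, mul_smul_comm, mul_smul_comm, smul_mul_assoc, smul_mul_assoc, conjJ, mul_one, h1]
    exact K.add_mem (K.smul_mem K.one_mem _) (K.smul_mem (K.smul_mem S.mem _) _)
  · intro ha
    obtain ⟨s, t, hst⟩ := S.gen _ ha
    have e : a = s • (1 : Matrix ι ι F) + t • (ε • J) := by
      have := congrArg (fun Y => ((g⁻¹ : GL ι F) : Matrix ι ι F) * Y * (g : Matrix ι ι F)) hst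
      simp only [mul_add, add_mul, mul_smul_comm, smul_mul_assoc, conjJ', mul_one, h2] at this
      simp only [mul_assoc, h2, mul_one] at this
      rwa [← mul_assoc, h2, one_mul] at this
    rw [e]
    exact K.add_mem (K.smul_mem K.one_mem _) (K.smul_mem (K.smul_mem S.mem _) _)

theorem Gen.norm_lin_iff (S : Gen K J δ) {g : GL ι F} :
    g ∈ Cfsg.Geo.subalgebraNormalizer K ↔
      ((∀ v, Matrix.toLin' (g : Matrix ι ι F) (Matrix.toLin' J v) = Matrix.toLin' J (Matrix.toLin' (g : Matrix ι ι F) v)) ∨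
       ∀ v, Matrix.toLin' (g : Matrix ι ι F) (Matrix.toLin' J v) =
        -Matrix.toLin' J (Matrix.toLin' (g : Matrix ι ι F) v)) := by
  simp only [Matrix.toLin'_apply, Matrix.mulVec_mulVec]
  rw [S.norm_iff]
  constructor
  · rintro (h | h)
    · exact Or.inl fun v => by rw [h]
    · exact Or.inr fun v => by rw [h, Matrix.neg_mulVec]
  · rintro (h | h)
    · exact Or.inl (Matrix.ext_of_mulVec_single fun i => h _)
    · exact Or.inr (Matrix.ext_of_mulVec_single fun i => by rw [Matrix.neg_mulVec]; exact h _)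

theorem pow_comm {y : Module.End F (ι → F)} {j : Module.End F (ι → F)} (h : ∀ v, y (j v) = -j (y v)) :
    ∀ (n : ℕ) (v : ι → F), (y ^ n) (j v) = (-1 : F) ^ n • j ((y ^ n) v)
  | 0, v => by simp
  | n + 1, v => by
    rw [pow_succ y, Module.End.mul_apply, Module.End.mul_apply, h, map_neg, pow_comm h n, pow_succ (-1 : F), mul_neg_one,
      neg_smul]

/-- Elements of odd order in the normalizer are linear. -/
theorem Gen.comm_of_odd (S : Gen K J δ) [Nonempty ι] (h2 : (2 : F) ≠ 0) {g : GL ι F}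
    (hg : g ∈ Cfsg.Geo.subalgebraNormalizer K) {r : ℕ} (hr : Odd r)
    (hgr : (Matrix.toLin' (g : Matrix ι ι F)) ^ r = 1) (v : ι → F) :
    Matrix.toLin' (g : Matrix ι ι F) (Matrix.toLin' J v) =
      Matrix.toLin' J (Matrix.toLin' (g : Matrix ι ι F) v) := by
  rcases S.norm_lin_iff.1 hg with h | h
  · exact h v
  exfalso
  have hz : ∀ w, Matrix.toLin' J w = 0 := fun w => by
    have e := pow_comm h r w
    rw [hgr, hr.neg_one_pow, Module.End.one_apply, Module.End.one_apply, neg_one_smul] at e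
    exact (smul_eq_zero.1 (show (2 : F) • Matrix.toLin' J w = 0 by
      rw [two_smul]; nth_rw 2 [e]; exact add_neg_cancel _)).resolve_left h2
  have hJ : J = 0 := Matrix.toLin'.injective (LinearMap.ext fun w => by rw [hz w, map_zero, LinearMap.zero_apply])
  have e := S.sq
  rw [hJ, mul_zero, eq_comm, smul_eq_zero] at e
  exact e.elim S.ne one_ne_zero

end Cfsg.Lib.OrthEl.Ext
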