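import Cfsg.Agent.Classical.OrthElusive.FieldExt.Typed
import Cfsg.Agent.Classical.OrthElusive.FieldExt.Matrices
import Cfsg.Agent.Classical.OrthElusive.InvOddOmega
import Cfsg.Agent.Classical.OrthElusive.OneClass
import Cfsg.Agent.Classical.OrthElusive.Models

/-!
# Every involution normalizes some conjugate of the field
-/

set_option autoImplicit false
set_option linter.unusedSectionVars false

open QuadraticMap Submodule Cfsg.Lib.FormNormal Matrix
open Cfsg.Lib.Classical.PrimeOrd (Inv)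
open Cfsg.Lib.Classical.Refl (mat refl)

namespace Cfsg.Lib.OrthEl.Ext

universe u

section Frames

variable {F : Type u} [Field F] [Fintype F] {V : Type u} [AddCommGroup V] [Module F V] [FiniteDimensional F V]
  {Q : QuadraticForm F V}

/-- Frames for a square root of minus one. -/
theorem exists_sq_frame (h2 : (2 : F) ≠ 0) {x : Module.End F V} (hiso : ∀ v, Q (x v) = Q v) (hx2 : ∀ v, x (x v) = -v) :
    ∀ (k : ℕ) (W : Submodule F V), ND Q W → Inv x W → Module.finrank F W = 2 * k →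
      ∃ f : Fin k → V, (∀ i, f i ∈ W) ∧ (∀ i, Q (f i) = 1) ∧ (∀ i j, i ≠ j → polar (⇑Q) (f i) (f j) = 0) ∧
        ∀ i j, polar (⇑Q) (f i) (x (f j)) = 0 := by
  intro k
  induction k with
  | zero => exact fun W _ _ _ => ⟨Fin.elim0, fun i => i.elim0, fun i => i.elim0, fun i => i.elim0, fun i => i.elim0⟩
  | succ k ih =>
    intro W hW hWi hd
    obtain ⟨u, hu, hQu⟩ := exists_value Q W hW (by omega) 1 one_ne_zero
    obtain ⟨hP, hPi, hPn, hPd, -⟩ :=
      sq_neg_plane h2 hiso (fun w _ => hx2 w) hWi hu (by rw [hQu]; exact one_ne_zero)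
    obtain ⟨-, hRn⟩ := sup_perp hW hP hPn
    have hd' := finrank_perp hW hP
    have hRi := inv_perp_sq (s := -1) hiso (by ring) (fun w _ => by rw [neg_one_smul]; exact hx2 w) hWi hP hPi
    obtain ⟨f, hf, hf1, hfo, hfx⟩ := ih _ hRn hRi (by omega)
    have hux : polar (⇑Q) u (x u) = 0 := polar_sq_neg h2 hiso (W := ⊤) (fun w _ => hx2 w) trivial
    have hfu : ∀ i, polar (⇑Q) u (f i) = 0 := fun i => (mem_perp.1 (hf i)).2 u (subset_span (by simp))
    have hfu' : ∀ i, polar (⇑Q) u (x (f i)) = 0 := fun i => (mem_perp.1 (hRi _ (hf i))).2 u (subset_span (by simp))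
    have hxu : ∀ i, polar (⇑Q) (f i) (x u) = 0 := fun i => by
      rw [QuadraticMap.polar_comm]; exact (mem_perp.1 (hf i)).2 (x u) (subset_span (by simp))
    refine ⟨Fin.cons u f, Fin.cases hu fun i => perp_le _ _ (hf i), Fin.cases hQu hf1, fun i j hij => ?_, fun i j => ?_⟩
    · induction i using Fin.cases with
      | zero => induction j using Fin.cases with
        | zero => exact absurd rfl hij
        | succ j => exact hfu j
      | succ i => induction j using Fin.cases with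
        | zero => rw [QuadraticMap.polar_comm]; exact hfu i
        | succ j => simpa using hfo i j (fun e => hij (by rw [e]))
    · induction i using Fin.cases with
      | zero => induction j using Fin.cases with
        | zero => exact hux
        | succ j => exact hfu' j
      | succ i => induction j using Fin.cases with
        | zero => exact hxu i
        | succ j => exact hfx i j

/-- The basis of a frame. -/
theorem exists_sq_basis (h2 : (2 : F) ≠ 0) (hQ : ND Q (⊤ : Submodule F V)) {x : Module.End F V}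
    (hiso : ∀ v, Q (x v) = Q v) (hx2 : ∀ v, x (x v) = -v) {k : ℕ} (hV : Module.finrank F V = 2 * k) :
    ∃ b : Module.Basis (Fin k ⊕ Fin k) F V, (∀ i, Q (b i) = 1) ∧ (∀ i j, i ≠ j → polar (⇑Q) (b i) (b j) = 0) ∧
      (∀ i, x (b (Sum.inl i)) = b (Sum.inr i)) ∧ ∀ i, x (b (Sum.inr i)) = -b (Sum.inl i) := by
  classical
  obtain ⟨f, -, hf1, hfo, hfx⟩ := exists_sq_frame h2 hiso hx2 k ⊤ hQ (fun _ _ => trivial) (by rw [finrank_top]; exact hV)
  have hpx : ∀ a b, polar (⇑Q) (x a) (x b) = polar (⇑Q) a b := fun a b => by simp only [polar, ← map_add, hiso]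
  obtain ⟨g, hg⟩ : ∃ g, g = Sum.elim f fun i => x (f i) := ⟨_, rfl⟩
  have h1 : ∀ i, Q (g i) = 1 := by rintro (i | i) <;> simp [hg, hiso, hf1]
  have ho : ∀ i j, i ≠ j → polar (⇑Q) (g i) (g j) = 0 := by
    rintro (i | i) (j | j) hne <;> simp only [hg, Sum.elim_inl, Sum.elim_inr]
    · exact hfo i j (by simpa using hne)
    · exact hfx i j
    · rw [QuadraticMap.polar_comm]; exact hfx j i
    · rw [hpx]; exact hfo i j (by simpa using hne)
  have hli : LinearIndependent F g := by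
    rw [Fintype.linearIndependent_iff]
    intro c hc i
    have h := congrArg (fun z => polar (⇑Q) z (g i)) hc
    simp only [QuadraticMap.polar_zero_left] at h
    rw [show polar (⇑Q) (∑ j, c j • g j) (g i) = ∑ j, c j * polar (⇑Q) (g j) (g i) by
      show polarBilin Q _ (g i) = _
      rw [map_sum, LinearMap.sum_apply]
      simp, Finset.sum_eq_single i (fun j _ hj => by rw [ho j i hj, mul_zero]) (fun h => absurd (Finset.mem_univ i) h),
      FormNormal.polar_self', h1, mul_one] at h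
    exact (mul_eq_zero.1 h).resolve_right h2
  have hspan : span F (Set.range g) = ⊤ := Submodule.eq_top_of_finrank_eq (by
    rw [finrank_span_eq_card hli, hV, Fintype.card_sum, Fintype.card_fin]; ring)
  refine ⟨Module.Basis.mk hli hspan.ge, fun i => by rw [Module.Basis.mk_apply]; exact h1 i,
    fun i j hij => by rw [Module.Basis.mk_apply, Module.Basis.mk_apply]; exact ho i j hij, fun i => ?_, fun i => ?_⟩
  · rw [Module.Basis.mk_apply, Module.Basis.mk_apply, hg]; rfl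
  · rw [Module.Basis.mk_apply, Module.Basis.mk_apply, hg]; exact hx2 _

/-- Square roots of minus one are conjugate. -/
theorem exists_conj_sq_neg (h2 : (2 : F) ≠ 0) (hQ : ND Q (⊤ : Submodule F V)) {k : ℕ}
    (hV : Module.finrank F V = 2 * k) {x T : Module.End F V} (hx : ∀ v, Q (x v) = Q v) (hx2 : ∀ v, x (x v) = -v)
    (hT : ∀ v, Q (T v) = Q v) (hT2 : ∀ v, T (T v) = -v) :
    ∃ e : V ≃ₗ[F] V, (∀ v, Q (e v) = Q v) ∧ ∀ v, x (e v) = e (T v) := by
  obtain ⟨b, hb1, hbo, hbl, hbr⟩ := exists_sq_basis h2 hQ hT hT2 hV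
  obtain ⟨c, hc1, hco, hcl, hcr⟩ := exists_sq_basis h2 hQ hx hx2 hV
  let e : V ≃ₗ[F] V := b.equiv c (Equiv.refl _)
  have he : ∀ i, e (b i) = c i := fun i => Module.Basis.equiv_apply _ _ _ _
  refine ⟨e, fun v => ?_, fun v => ?_⟩
  · refine FormNormal.eq_of_basis (Q.comp e.toLinearMap) Q b (fun i => ?_) (fun i j => ?_) v
    · show Q (e (b i)) = _
      rw [he, hc1, hb1]
    · show Q (e (b i + b j)) - Q (e (b i)) - Q (e (b j)) = _
      rw [map_add, he, he]
      show polar (⇑Q) (c i) (c j) = _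
      by_cases hij : i = j
      · subst hij; rw [FormNormal.polar_self', FormNormal.polar_self', hc1, hb1]
      · rw [hco i j hij, hbo i j hij]
  · have h : x ∘ₗ e.toLinearMap = e.toLinearMap ∘ₗ T := b.ext fun i => by
      show x (e (b i)) = e (T (b i))
      rcases i with i | i
      · rw [he, hbl, he, hcl]
      · rw [he, hbr, map_neg, he, hcr]
    exact LinearMap.congr_fun h v

end Frames

variable {F : Type u} [Field F] [Fintype F] [DecidableEq F] {ι : Type} [Fintype ι] [DecidableEq ι]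
  {Q : QuadraticForm F (ι → F)} {K : Subalgebra F (Matrix ι ι F)} {J : Matrix ι ι F} {δ : F}

/-- The coset representatives of `Ω` among products of two reflections. -/
theorem omega_cover (h2 : (2 : F) ≠ 0) (hQ : (polarBilin Q).Nondegenerate) (hn : 2 ≤ Fintype.card ι) {α β : ι → F}
    (hα : Q α ≠ 0) (hβ : Q β ≠ 0) (hns : ¬ IsSquare (Q α * Q β)) (g : Cfsg.isometryGroup F (⇑Q)) :
    g ∈ Cfsg.Omega F (⇑Q) ∨ refl Q α hα * g ∈ Cfsg.Omega F (⇑Q) ∨ refl Q β hβ * g ∈ Cfsg.Omega F (⇑Q) ∨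
      refl Q α hα * refl Q β hβ * g ∈ Cfsg.Omega F (⇑Q) := by
  have mem : ∀ z : Cfsg.isometryGroup F (⇑Q), Abelianization.of z = 1 → z ∈ Cfsg.Omega F (⇑Q) :=
    fun z hz => (QuotientGroup.eq_one_iff z).mp hz
  have haa : Abelianization.of (refl Q α hα) * Abelianization.of (refl Q α hα) = 1 := by
    rw [← map_mul, Cfsg.Lib.Classical.Refl.refl_mul_self, map_one]
  have hbb : Abelianization.of (refl Q β hβ) * Abelianization.of (refl Q β hβ) = 1 := by
    rw [← map_mul, Cfsg.Lib.Classical.Refl.refl_mul_self, map_one]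
  have h := Cfsg.Lib.Classical.Refl.class_mem Q h2 hQ hα hβ hns g
  simp only [Set.mem_insert_iff, Set.mem_singleton_iff] at h
  rcases h with h | h | h | h
  · exact Or.inl (mem g h)
  · exact Or.inr (Or.inl (mem _ (by rw [map_mul, h, haa])))
  · exact Or.inr (Or.inr (Or.inl (mem _ (by rw [map_mul, h, hbb]))))
  · refine Or.inr (Or.inr (Or.inr (mem _ ?_)))
    rw [map_mul, map_mul, h]
    calc Abelianization.of (refl Q α hα) * Abelianization.of (refl Q β hβ) *
          (Abelianization.of (refl Q α hα) * Abelianization.of (refl Q β hβ))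
        = (Abelianization.of (refl Q α hα) * Abelianization.of (refl Q α hα)) *
          (Abelianization.of (refl Q β hβ) * Abelianization.of (refl Q β hβ)) := mul_mul_mul_comm _ _ _ _
      _ = 1 := by rw [haa, hbb, one_mul]

/-- Conjugating a square root of minus one by a reflection. -/
theorem refl_twist (h2 : (2 : F) ≠ 0) {T : Module.End F (ι → F)} (hT : ∀ v, Q (T v) = Q v) (hT2 : ∀ v, T (T v) = -v)
    {u : ι → F} (hu : Q u ≠ 0) :
    (∀ z ∈ span F ({u, T u} : Set (ι → F)), mat Q (refl Q u hu) *ᵥ T (mat Q (refl Q u hu) *ᵥ z) = -T z) ∧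
      ∀ z ∈ perp Q ⊤ (span F ({u, T u} : Set (ι → F))), mat Q (refl Q u hu) *ᵥ T (mat Q (refl Q u hu) *ᵥ z) = T z := by
  have hut : polar (⇑Q) u (T u) = 0 := polar_sq_neg (W := ⊤) h2 hT (fun w _ => hT2 w) trivial
  have hpT : ∀ a b, polar (⇑Q) (T a) (T b) = polar (⇑Q) a b := fun a b => by simp only [polar, ← map_add, hT]
  constructor
  · intro z hz
    obtain ⟨a, b, rfl⟩ := mem_span_pair.1 hz
    simp only [Matrix.mulVec_add, Matrix.mulVec_smul, map_add, map_smul, refl_self', refl_fix' u hu hut, map_neg, hT2,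
      Matrix.mulVec_neg, smul_neg, neg_neg, neg_add]
  · intro z hz
    have h1 : polar (⇑Q) u z = 0 := (mem_perp.1 hz).2 u (subset_span (by simp))
    have h2' : polar (⇑Q) u (T z) = 0 := by
      have := (mem_perp.1 hz).2 (T u) (subset_span (by simp))
      rw [← hpT, hT2, QuadraticMap.polar_neg_left, neg_eq_zero] at this
      exact this
    rw [refl_fix' u hu h1, refl_fix' u hu h2']

/-- From an isometry to a member of the normalizer. -/
theorem conclude (x y : Cfsg.isometryGroup F (⇑Q)) (g : Cfsg.isometryGroup F (⇑Q)) (hg : g ∈ Cfsg.Omega F (⇑Q))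
    (hxy : x * g = g * y) (hy : (y : GL ι F) ∈ Cfsg.Geo.subalgebraNormalizer K) :
    ∃ h ∈ Cfsg.Geo.omegaGL (⇑Q), h⁻¹ * (x : GL ι F) * h ∈ Cfsg.Geo.subalgebraNormalizer K := by
  refine ⟨g, (Cfsg.Lib.Classical.Refl.mem_omegaGL Q _).2 ⟨g, hg, rfl⟩, ?_⟩
  rw [← Subgroup.coe_inv, ← Subgroup.coe_mul, ← Subgroup.coe_mul, mul_assoc, hxy, ← mul_assoc, inv_mul_cancel, one_mul]
  exact hy

variable (hQ : (polarBilin Q).Nondegenerate) {d : ℕ} (hn : Fintype.card ι = 2 * d) (hd : 4 ≤ d)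
include hQ hn hd

/-- Involutions. -/
theorem fix_invol (G : Gen K J δ) (S : Str Q (Matrix.toLin' J) δ) (x : Cfsg.isometryGroup F (⇑Q))
    (hxΩ : x ∈ Cfsg.Omega F (⇑Q)) (hx2 : ∀ v, mat Q x *ᵥ (mat Q x *ᵥ v) = v)
    (h1 : ∃ v, mat Q x *ᵥ v ≠ v) (h1' : ∃ v, mat Q x *ᵥ v ≠ -v) :
    ∃ h ∈ Cfsg.Geo.omegaGL (⇑Q), h⁻¹ * (x : GL ι F) * h ∈ Cfsg.Geo.subalgebraNormalizer K := by
  classical
  have h2 := S.two
  have hQn := nd_top_of_nondeg hQ
  have hV : Module.finrank F (ι → F) = 2 * d := by rw [Module.finrank_fintype_fun_eq_card, hn]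
  obtain ⟨C, D, k, hC, hD, hor, htop, hCx, hDx, hDd, -⟩ := omega_invol_data hQ h2 (by omega) hxΩ hx2
  have hCD : Module.finrank F C + 2 * k = 2 * d := by
    rw [← hDd, ← finrank_sup_orth hC hor, htop, finrank_top, hV]
  have hk : 1 ≤ k := Nat.one_le_iff_ne_zero.2 fun e => by
    obtain ⟨v, hv⟩ := h1
    refine hv ((hCx v).1 ?_)
    rw [show C = ⊤ from Submodule.eq_top_of_finrank_eq (by omega)]
    trivial
  have hkd : k < d := by
    by_contra hh
    obtain ⟨v, hv⟩ := h1'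
    refine hv ((hDx v).1 ?_)
    rw [show D = ⊤ from Submodule.eq_top_of_finrank_eq (by have := Submodule.finrank_le D; omega)]
    trivial
  obtain ⟨k, rfl⟩ : ∃ l, k = l + 1 := ⟨k - 1, by omega⟩
  obtain ⟨W, -, hWi, hWn, hWd, hWp⟩ := S.exists_sub k ⊤ (Plus Q D) Str.inv_top hQn (by rw [finrank_top, hV]; omega)
  obtain ⟨φ, hφ⟩ := iso_of_plus hWn hD (hWd.trans hDd.symm) (by rw [hWd]; exact even_two_mul _) hWp
  obtain ⟨e, he, heφ⟩ := Cfsg.Lib.Classical.WittQuad.witt Q hQ W D φ hφ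
  obtain ⟨g₀, hg₀⟩ := Cfsg.Lib.Classical.Refl.exists_of_equiv Q e he
  have hxg : ∀ w ∈ W, mat Q x *ᵥ (mat Q g₀ *ᵥ w) = -(mat Q g₀ *ᵥ w) := fun w hw => by
    refine (hDx _).1 ?_
    rw [hg₀, show e w = _ from heφ ⟨w, hw⟩]
    exact Subtype.coe_prop _
  have hxg' : ∀ z ∈ perp Q ⊤ W, mat Q x *ᵥ (mat Q g₀ *ᵥ z) = mat Q g₀ *ᵥ z := fun z hz => by
    refine (hCx _).1 ?_
    obtain ⟨a, ha, b, hb, hab⟩ := mem_sup.1 (htop.ge (mem_top : mat Q g₀ *ᵥ z ∈ ⊤))
    have hb0 : b = 0 := hD b hb fun y hy => by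
      obtain ⟨w, rfl⟩ : ∃ w : W, (φ w : ι → F) = y := ⟨φ.symm ⟨y, hy⟩, by rw [φ.apply_symm_apply]⟩
      have h := (mem_perp.1 hz).2 w w.2
      rw [← heφ, QuadraticMap.polar_comm]
      have e1 : polar (⇑Q) (e w) (a + b) = 0 := by
        rw [hab, hg₀]
        simp only [polar, ← map_add, he]
        exact h
      have e2 : polar (⇑Q) (e w) a = 0 := hor.symm _ (by rw [heφ]; exact Subtype.coe_prop _) a ha
      rw [QuadraticMap.polar_add_right, e2, zero_add] at e1
      exact e1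
    rw [← hab, hb0, add_zero]
    exact ha
  obtain ⟨y, hy⟩ : ∃ y, y = g₀⁻¹ * x * g₀ := ⟨_, rfl⟩
  have hyv : ∀ v, mat Q y *ᵥ v = mat Q g₀⁻¹ *ᵥ (mat Q x *ᵥ (mat Q g₀ *ᵥ v)) := fun v => by
    rw [hy, mat_mul, mat_mul]
  have hyN : (y : GL ι F) ∈ Cfsg.Geo.subalgebraNormalizer K := by
    refine G.norm_lin_iff.2 (Or.inl fun v => ?_)
    show Matrix.toLin' (mat Q y) _ = Matrix.toLin' J (Matrix.toLin' (mat Q y) v)
    simp only [Matrix.toLin'_apply (mat Q y)]
    obtain ⟨a, ha, b, hb, rfl⟩ := mem_sup.1 ((sup_perp hQn le_top hWn).1.ge (mem_top : v ∈ ⊤))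
    have hJb := S.inv_perp Str.inv_top hWi b hb
    have y1 : ∀ w ∈ W, mat Q y *ᵥ w = -w := fun w hw => by
      rw [hyv, hxg w hw, Matrix.mulVec_neg, Cfsg.Lib.Classical.Refl.mulVec_inv_cancel]
    have y2 : ∀ z ∈ perp Q ⊤ W, mat Q y *ᵥ z = z := fun z hz => by
      rw [hyv, hxg' z hz, Cfsg.Lib.Classical.Refl.mulVec_inv_cancel]
    rw [map_add, Matrix.mulVec_add, Matrix.mulVec_add, y1 a ha, y1 _ (hWi a ha), y2 b hb, y2 _ hJb, map_add, map_neg]
  have hCd : 2 ≤ Module.finrank F C := by omega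
  obtain ⟨ν, hν⟩ := FiniteField.exists_nonsquare (F := F) (by
    rw [Ne, ringChar.eq_iff]; intro h; exact h2 (CharTwo.two_eq_zero (R := F)))
  have hν0 : ν ≠ 0 := fun e => hν (e ▸ ⟨0, (mul_zero 0).symm⟩)
  obtain ⟨α, hαC, hQα⟩ := exists_value Q C hC hCd 1 one_ne_zero
  obtain ⟨β, hβC, hQβ⟩ := exists_value Q C hC hCd ν hν0
  have hα : Q α ≠ 0 := by rw [hQα]; exact one_ne_zero
  have hβ : Q β ≠ 0 := by rw [hQβ]; exact hν0
  have hcomm : ∀ (v : ι → F) (hv : Q v ≠ 0), v ∈ C → x * refl Q v hv = refl Q v hv * x := fun v hv hvC => by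
    rw [← mul_inv_eq_iff_eq_mul, Cfsg.Lib.Classical.Refl.refl_conj]
    congr 1
    exact (hCx v).1 hvC
  have key : ∀ h : Cfsg.isometryGroup F (⇑Q), x * h = h * x → x * (h * g₀) = h * g₀ * y := fun h hh => by
    rw [hy, ← mul_assoc, hh]; group
  rcases omega_cover h2 hQ (by omega) hα hβ (by rw [hQα, hQβ, one_mul]; exact hν) g₀ with h | h | h | h
  · exact conclude x y g₀ h (by rw [hy]; group) hyN
  · exact conclude x y _ h (key _ (hcomm α hα hαC)) hyN
  · exact conclude x y _ h (key _ (hcomm β hβ hβC)) hyN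
  · refine conclude x y _ h (key _ ?_) hyN
    rw [← mul_assoc, hcomm α hα hαC, mul_assoc, hcomm β hβ hβC, mul_assoc]

/-- Elements whose square is minus one. -/
theorem fix_sq_neg (G : Gen K J δ) (S : Str Q (Matrix.toLin' J) δ) (x : Cfsg.isometryGroup F (⇑Q))
    (hx2 : ∀ v, mat Q x *ᵥ (mat Q x *ᵥ v) = -v) :
    ∃ h ∈ Cfsg.Geo.omegaGL (⇑Q), h⁻¹ * (x : GL ι F) * h ∈ Cfsg.Geo.subalgebraNormalizer K := by
  classical
  have h2 := S.two
  have hQn := nd_top_of_nondeg hQ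
  have hV : Module.finrank F (ι → F) = 2 * d := by rw [Module.finrank_fintype_fun_eq_card, hn]
  obtain ⟨ξ, hξ⟩ : ∃ ξ, ξ = Matrix.toLin' (mat Q x) := ⟨_, rfl⟩
  have hξa : ∀ v, ξ v = mat Q x *ᵥ v := fun v => by rw [hξ, Matrix.toLin'_apply]
  have hξi : ∀ v, Q (ξ v) = Q v := fun v => by rw [hξa, mat_iso]
  have hξ2 : ∀ v, ξ (ξ v) = -v := fun v => by rw [hξa, hξa, hx2]
  have hp : Plus Q (⊤ : Submodule F (ι → F)) ↔ (IsSquare (-1 : F) ∨ Even d) := by
    obtain ⟨j, hj, hjp, -⟩ := sq_neg_struct h2 hξi _ ⊤ rfl hQn (fun _ _ => trivial) fun w _ => hξ2 w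
    rw [finrank_top, hV] at hj
    rwa [show j = d by omega] at hjp
  obtain ⟨T, u, hTi, hT2, hTJ, hu, hTu⟩ := S.exists_root_top hQn hV (by omega) hp
  obtain ⟨e, he, hex⟩ := exists_conj_sq_neg h2 hQn hV hξi hξ2 hTi hT2
  obtain ⟨g₀, hg₀⟩ := Cfsg.Lib.Classical.Refl.exists_of_equiv Q e he
  -- the two candidates
  obtain ⟨ρ, hρ⟩ : ∃ ρ, ρ = refl Q u hu := ⟨_, rfl⟩
  obtain ⟨y, hy⟩ : ∃ y, y = g₀⁻¹ * x * g₀ := ⟨_, rfl⟩
  have hyv : ∀ v, mat Q y *ᵥ v = T v := fun v => by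
    rw [hy, mat_mul, mat_mul, hg₀, ← hξa, hex, ← hg₀, Cfsg.Lib.Classical.Refl.mulVec_inv_cancel]
  have hyN : (y : GL ι F) ∈ Cfsg.Geo.subalgebraNormalizer K := by
    refine G.norm_lin_iff.2 (Or.inr fun v => ?_)
    show Matrix.toLin' (mat Q y) _ = -Matrix.toLin' J (Matrix.toLin' (mat Q y) v)
    simp only [Matrix.toLin'_apply (mat Q y), hyv]
    exact hTJ v
  obtain ⟨hL, hLi', hLn, hLd, -⟩ := sq_neg_plane (W := ⊤) h2 hTi (fun w _ => hT2 w) (fun _ _ => trivial) trivial hu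
  have hLJ : span F ({u, T u} : Set (ι → F)) = line (Matrix.toLin' J) u := by
    refine Submodule.eq_of_le_of_finrank_eq (span_le.2 ?_) ?_
    · rintro z (rfl | rfl)
      exacts [mem_line_self _, hTu]
    · rw [hLd, S.finrank_line (fun e => hu (by rw [e, QuadraticMap.map_zero]))]
  have hyρN : ((ρ * y * ρ : Cfsg.isometryGroup F (⇑Q)) : GL ι F) ∈ Cfsg.Geo.subalgebraNormalizer K := by
    refine G.norm_lin_iff.2 (Or.inr fun v => ?_)
    show Matrix.toLin' (mat Q (ρ * y * ρ)) _ = -Matrix.toLin' J (Matrix.toLin' (mat Q (ρ * y * ρ)) v)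
    rw [Matrix.toLin'_apply (mat Q (ρ * y * ρ)), Matrix.toLin'_apply (mat Q (ρ * y * ρ))]
    simp only [mat_mul, hyv, hρ]
    obtain ⟨t1, t2⟩ := refl_twist h2 hTi hT2 hu
    obtain ⟨a, ha, b, hb, rfl⟩ := mem_sup.1 ((sup_perp hQn le_top hLn).1.ge (mem_top : v ∈ ⊤))
    have hJa : Matrix.toLin' J a ∈ span F ({u, T u} : Set (ι → F)) := by
      rw [hLJ] at ha ⊢; exact S.inv_line u a ha
    have hJb : Matrix.toLin' J b ∈ perp Q ⊤ (span F ({u, T u} : Set (ι → F))) := by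
      rw [hLJ] at hb ⊢; exact S.inv_perp Str.inv_top (S.inv_line u) b hb
    simp only [map_add, Matrix.mulVec_add, t1 a ha, t1 _ hJa, t2 b hb, t2 _ hJb, hTJ, map_neg]
    abel
  -- an element of the centralizer outside the group
  obtain ⟨ν, hν⟩ := FiniteField.exists_nonsquare (F := F) (by
    rw [Ne, ringChar.eq_iff]; intro h; exact h2 (CharTwo.two_eq_zero (R := F)))
  have hν0 : ν ≠ 0 := fun e => hν (e ▸ ⟨0, (mul_zero 0).symm⟩)
  obtain ⟨α, -, hQα⟩ := exists_value Q ⊤ hQn (by rw [finrank_top, hV]; omega) 1 one_ne_zero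
  have hα : Q α ≠ 0 := by rw [hQα]; exact one_ne_zero
  obtain ⟨hM, hMi, hMn, hMd, -⟩ := sq_neg_plane (W := ⊤) h2 hξi (fun w _ => hξ2 w) (fun _ _ => trivial) trivial hα
  obtain ⟨β, hβM, hQβ⟩ := exists_value Q _ hMn hMd.ge ν hν0
  have hβ : Q β ≠ 0 := by rw [hQβ]; exact hν0
  have hMβ : span F ({β, ξ β} : Set (ι → F)) = span F ({α, ξ α} : Set (ι → F)) := by
    obtain ⟨-, -, -, hd', -⟩ := sq_neg_plane (W := ⊤) h2 hξi (fun w _ => hξ2 w) (fun _ _ => trivial) trivial hβ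
    refine Submodule.eq_of_le_of_finrank_eq (span_le.2 ?_) (hd'.trans hMd.symm)
    rintro z (rfl | rfl)
    exacts [hβM, hMi β hβM]
  have hxc : x * (refl Q α hα * refl Q β hβ) = refl Q α hα * refl Q β hβ * x := by
    have hsame : refl Q α hα * x * refl Q α hα = refl Q β hβ * x * refl Q β hβ := by
      refine Cfsg.Lib.Classical.Refl.ext_mulVec Q fun v => ?_
      show mat Q _ *ᵥ v = mat Q _ *ᵥ v
      obtain ⟨a1, a2⟩ := refl_twist h2 hξi hξ2 hα
      obtain ⟨b1, b2⟩ := refl_twist h2 hξi hξ2 hβ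
      obtain ⟨a, ha, b, hb, rfl⟩ := mem_sup.1 ((sup_perp hQn le_top hMn).1.ge (mem_top : v ∈ ⊤))
      simp only [mat_mul, ← hξa, Matrix.mulVec_add, map_add]
      rw [a1 a ha, a2 b hb, b1 a (by rw [hMβ]; exact ha), b2 b (by rw [hMβ]; exact hb)]
    have haa := Cfsg.Lib.Classical.Refl.refl_mul_self Q α hα
    have hbb := Cfsg.Lib.Classical.Refl.refl_mul_self Q β hβ
    calc x * (refl Q α hα * refl Q β hβ)
        = refl Q α hα * (refl Q α hα * x * refl Q α hα) * refl Q β hβ := by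
          rw [← mul_assoc (refl Q α hα) (refl Q α hα * x), ← mul_assoc (refl Q α hα) (refl Q α hα) x, haa, one_mul,
            mul_assoc]
      _ = _ := by rw [hsame, mul_assoc, mul_assoc (refl Q β hβ * x), hbb, mul_one, ← mul_assoc]
  -- choosing the determinant
  obtain ⟨g₁, y₁, hg₁, hy₁, hdet⟩ : ∃ g₁ y₁, x * g₁ = g₁ * y₁ ∧
      (y₁ : GL ι F) ∈ Cfsg.Geo.subalgebraNormalizer K ∧ Cfsg.Lib.Classical.Refl.detHom Q g₁ = 1 := by
    rcases Cfsg.Lib.Classical.Refl.det_sq Q hQ g₀ with h | h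
    · exact ⟨g₀, y, by rw [hy]; group, hyN, Units.ext h⟩
    · refine ⟨g₀ * ρ, ρ * y * ρ, ?_, hyρN, ?_⟩
      · have hρρ : ρ * ρ = 1 := by rw [hρ, Cfsg.Lib.Classical.Refl.refl_mul_self]
        rw [show g₀ * ρ * (ρ * y * ρ) = g₀ * (ρ * ρ) * y * ρ by simp only [mul_assoc], hρρ, mul_one, hy]
        group
      · rw [map_mul, show Cfsg.Lib.Classical.Refl.detHom Q g₀ = -1 from Units.ext h, hρ,
          Cfsg.Lib.Classical.Refl.detHom_refl, neg_one_mul, neg_neg]
  have hneg : (-1 : Fˣ) ≠ 1 := fun h => h2 (by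
    have := congrArg Units.val h; simp at this; linear_combination -this)
  have hΩ1 : ∀ z, z ∈ Cfsg.Omega F (⇑Q) → Cfsg.Lib.Classical.Refl.detHom Q z = 1 :=
    fun z hz => Cfsg.Lib.Classical.Refl.hom_eq_one_of_omega Q _ hz
  rcases omega_cover h2 hQ (by omega) hα hβ (by rw [hQα, hQβ, one_mul]; exact hν) g₁ with h | h | h | h
  · exact conclude x y₁ g₁ h hg₁ hy₁
  · have := hΩ1 _ h
    rw [map_mul, Cfsg.Lib.Classical.Refl.detHom_refl, hdet, mul_one] at this
    exact absurd this hneg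
  · have := hΩ1 _ h
    rw [map_mul, Cfsg.Lib.Classical.Refl.detHom_refl, hdet, mul_one] at this
    exact absurd this hneg
  · exact conclude x y₁ _ h (by rw [← mul_assoc, hxc, mul_assoc, hg₁, ← mul_assoc]) hy₁

end Cfsg.Lib.OrthEl.Ext
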