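import Cfsg.Agent.Classical.OrthElusive.FieldExt.Odd
import Cfsg.Agent.Classical.OrthElusive.FieldExt.Two

/-!
# Elements of prime order and the field extension subgroups
-/

set_option autoImplicit false
set_option linter.unusedSectionVars false

open QuadraticMap Submodule Cfsg.Lib.FormNormal Matrix
open Cfsg.Lib.Classical.Refl (mat)

namespace Cfsg.Lib.OrthEl.Ext

universe u

variable {F : Type u} [Field F] [Fintype F] {ι : Type} [Fintype ι] [DecidableEq ι] {Q : QuadraticForm F (ι → F)}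
  {p r : ℕ} [Fact p.Prime] [CharP F p] [Fact r.Prime]

include p in
/-- Every element of order `r` has a conjugate normalizing the field exactly for `r = 2`. -/
theorem field_ext_iff (hQ : (polarBilin Q).Nondegenerate) {q : ℕ} (hq : Fintype.card F = q) (hodd : Odd q) {d : ℕ}
    (hn : Fintype.card ι = 2 * d) (hd : 4 ≤ d) (K : Subalgebra F (Matrix ι ι F))
    (hK : Cfsg.Geo.IsFieldSubalgebra 2 K) (hKf : Cfsg.Geo.IsSelfAdjointFor (polar (⇑Q)) K)
    (hΩ : r ∣ (Cfsg.Geo.subalgebraNormalizer K).relIndex (Cfsg.Geo.omegaGL (⇑Q))) :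
    (∀ x ∈ Cfsg.Geo.omegaGL (⇑Q), (∃ z : F, ((x ^ r : GL ι F) : Matrix ι ι F) = z • (1 : Matrix ι ι F)) →
      (∀ z : F, (x : Matrix ι ι F) ≠ z • (1 : Matrix ι ι F)) →
      ∃ g ∈ Cfsg.Geo.omegaGL (⇑Q), g⁻¹ * x * g ∈ Cfsg.Geo.subalgebraNormalizer K) ↔ r = 2 := by
  classical
  haveI : Nonempty ι := Fintype.card_pos_iff.mp (by omega)
  have h2 : (2 : F) ≠ 0 := Cfsg.Lib.Classical.Refl.two_ne_zero_of_odd (hq ▸ hodd)
  obtain ⟨J, δ, G, S⟩ := exists_gen (Q := Q) h2 hK hKf
  constructor
  · intro h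
    by_contra hr2
    have hp : Odd p := (Fact.out : p.Prime).odd_of_ne_two fun e => h2 (by
      subst e; exact CharTwo.two_eq_zero (R := F))
    obtain ⟨X, hX, hXr, hbad⟩ := bad_of_odd (p := p) hQ hn hd G S hp hr2 hΩ
    obtain ⟨g, hg, hgN⟩ := h X hX ⟨1, by rw [hXr, Units.val_one, one_smul]⟩ fun z hz =>
      hbad 1 (one_mem _) (G.norm_iff.2 (Or.inl (by
        rw [inv_one, one_mul, mul_one, hz, smul_mul_assoc, one_mul, mul_smul_comm, mul_one])))
    exact hbad g hg hgN
  · rintro rfl x hx ⟨z, hz⟩ hns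
    obtain ⟨g, hgΩ, rfl⟩ := (Cfsg.Lib.Classical.Refl.mem_omegaGL Q x).1 hx
    have hsq : ∀ v, mat Q g *ᵥ (mat Q g *ᵥ v) = z • v := fun v => by
      have e : mat Q g * mat Q g = z • 1 := by rw [← hz, Units.val_pow_eq_pow_val, _root_.sq]
      rw [Matrix.mulVec_mulVec, e, Matrix.smul_mulVec, Matrix.one_mulVec]
    have hz1 : z * z = 1 := by
      have hQn := nd_top_of_nondeg hQ
      obtain ⟨v, -, hv⟩ := exists_value Q ⊤ hQn (by
        rw [finrank_top, Module.finrank_fintype_fun_eq_card, hn]; omega) 1 one_ne_zero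
      have e := congrArg Q (hsq v)
      rw [mat_iso, mat_iso, QuadraticMap.map_smul, hv, smul_eq_mul, mul_one] at e
      exact e.symm
    rcases mul_self_eq_one_iff.1 hz1 with rfl | rfl
    · refine fix_invol hQ hn hd G S g hgΩ (fun v => by rw [hsq, one_smul]) ?_ ?_
      · by_contra h
        push Not at h
        refine hns 1 (Matrix.ext_of_mulVec_single fun i => ?_)
        rw [one_smul, Matrix.one_mulVec]
        exact h _
      · by_contra h
        push Not at h
        refine hns (-1) (Matrix.ext_of_mulVec_single fun i => ?_)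
        rw [Matrix.smul_mulVec, Matrix.one_mulVec, neg_one_smul]
        exact h _
    · exact fix_sq_neg hQ hn hd G S g fun v => by rw [hsq, neg_one_smul]

end Cfsg.Lib.OrthEl.Ext
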