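import Cfsg.Agent.Classical.OrthElusive.FieldExt.Derangement
import Cfsg.Agent.Classical.OrthElusive.FieldExt.Matrices
import Cfsg.Agent.Classical.OrthElusive.FieldExt.Count
import Cfsg.Agent.Classical.OrthElusive.AType
import Cfsg.Agent.Classical.OrthElusive.InvOddOmega

/-!
# Derangements of odd prime order
-/

set_option autoImplicit false
set_option linter.unusedSectionVars false
set_option linter.style.haveILetI false

open QuadraticMap Submodule Cfsg.Lib.FormNormal
open Cfsg.Lib.Classical.PrimeOrd (Inv fix mov mem_fix)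
open Cfsg.Lib.Classical.Refl (mat)
open scoped Matrix

namespace Cfsg.Lib.OrthEl.Ext

universe u

variable {F : Type u} [Field F] [Fintype F] {ι : Type} [Fintype ι] [DecidableEq ι] {Q : QuadraticForm F (ι → F)}
  {p r : ℕ} [Fact p.Prime] [CharP F p] [Fact r.Prime]

/-- An element of order `r` without a conjugate normalizing the field. -/
def Bad (Q : QuadraticForm F (ι → F)) (K : Subalgebra F (Matrix ι ι F)) (r : ℕ) : Prop :=
  ∃ X ∈ Cfsg.Geo.omegaGL (⇑Q), X ^ r = 1 ∧
    ∀ g ∈ Cfsg.Geo.omegaGL (⇑Q), g⁻¹ * X * g ∉ Cfsg.Geo.subalgebraNormalizer K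

/-- Conjugating an isometry. -/
theorem conj_data {X g : GL ι F} {x : Module.End F (ι → F)} (hX : Matrix.toLin' (X : Matrix ι ι F) = x)
    (hg : g ∈ Cfsg.Geo.omegaGL (⇑Q)) (hxi : ∀ v, Q (x v) = Q v) (hxp : x ^ r = 1) :
    ∃ y : Module.End F (ι → F), Matrix.toLin' ((g⁻¹ * X * g : GL ι F) : Matrix ι ι F) = y ∧ RIsom Q r y ∧
      Module.finrank F (LinearMap.range (y - 1)) = Module.finrank F (LinearMap.range (x - 1)) ∧
      ((∀ v, Q ((x - 1) v) = 0) → ∀ v, Q ((y - 1) v) = 0) := by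
  obtain ⟨h1, h2⟩ := gl_cancel g
  obtain ⟨e, he⟩ : ∃ e : (ι → F) ≃ₗ[F] (ι → F), ∀ v, e v = (g : Matrix ι ι F) *ᵥ v :=
    ⟨LinearEquiv.ofLinearMap (Matrix.toLin' (g : Matrix ι ι F)) (Matrix.toLin' ((g⁻¹ : GL ι F) : Matrix ι ι F))
      (by rw [← Matrix.toLin'_mul, h1, Matrix.toLin'_one]) (by rw [← Matrix.toLin'_mul, h2, Matrix.toLin'_one]),
      fun v => Matrix.toLin'_apply _ v⟩
  have hes : ∀ v, e.symm v = ((g⁻¹ : GL ι F) : Matrix ι ι F) *ᵥ v := fun v => by
    rw [LinearEquiv.symm_apply_eq, he, Matrix.mulVec_mulVec, h1, Matrix.one_mulVec]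
  have hei : ∀ v, Q (e v) = Q v := fun v => by rw [he]; exact omega_isom hg v
  have hesi : ∀ v, Q (e.symm v) = Q v := fun v => by rw [← hei (e.symm v), e.apply_symm_apply]
  refine ⟨e.symm.toLinearMap ∘ₗ x ∘ₗ e.toLinearMap, LinearMap.ext fun v => ?_, ⟨fun v => ?_, ?_⟩, ?_, fun hts v => ?_⟩
  · simp only [LinearMap.comp_apply, LinearEquiv.coe_coe, hes, he, ← hX, Matrix.toLin'_apply, Units.val_mul,
      Matrix.mulVec_mulVec, mul_assoc]
  · simp only [LinearMap.comp_apply, LinearEquiv.coe_coe, hesi, hxi, hei]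
  · have hp : ∀ j : ℕ, (e.symm.toLinearMap ∘ₗ x ∘ₗ e.toLinearMap) ^ j = e.symm.toLinearMap ∘ₗ (x ^ j) ∘ₗ e.toLinearMap :=
      fun j => by
        induction j with
        | zero => ext v; simp
        | succ j ih => rw [pow_succ, ih, pow_succ]; ext v; simp [Module.End.mul_apply]
    rw [hp, hxp]
    ext v; simp
  · rw [show (e.symm.toLinearMap ∘ₗ x ∘ₗ e.toLinearMap) - 1 = e.symm.toLinearMap ∘ₗ (x - 1) ∘ₗ e.toLinearMap by
      ext v; simp, LinearMap.range_comp, LinearMap.range_comp, LinearEquiv.range, Submodule.map_top,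
      LinearEquiv.finrank_map_eq]
  · have := hts (e v)
    simp only [LinearMap.sub_apply, Module.End.one_apply, LinearMap.comp_apply, LinearEquiv.coe_coe] at this ⊢
    rw [← hei, map_sub, e.apply_symm_apply, this]

variable {K : Subalgebra F (Matrix ι ι F)} {J : Matrix ι ι F} {δ : F}

include p in
/-- The root element. -/
theorem bad_unip (hQ : (polarBilin Q).Nondegenerate) (hn : 8 ≤ Fintype.card ι) (G : Gen K J δ)
    (S : Str Q (Matrix.toLin' J) δ) (hodd : Odd p) : Bad Q K p := by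
  classical
  haveI : Nonempty ι := Fintype.card_pos_iff.mp (by omega)
  have hQn := nd_top_of_nondeg hQ
  have hb := (idx_bounds hQn).2
  rw [finrank_top, Module.finrank_fintype_fun_eq_card] at hb
  obtain ⟨x, P, hiso, -, -, -, hsq, hts, hrd, -, -, -⟩ := exists_atype hQn (t := 1) (by omega)
  have hpow : ∀ (j : ℕ) (v : ι → F), (x ^ j) v = v + (j : F) • disp x v := fun j => by
    induction j with
    | zero => intro v; simp
    | succ j ih =>
      intro v
      rw [pow_succ', Module.End.mul_apply, ih, x_eq, map_add, map_smul, hsq, smul_zero, add_zero, Nat.cast_succ,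
        add_smul, one_smul, add_assoc]
  have hxp : x ^ p = 1 := LinearMap.ext fun v => by rw [hpow, CharP.cast_eq_zero, zero_smul, add_zero]; rfl
  obtain ⟨X, hXΩ, hXp, hX⟩ := exists_gl hQ (by omega) (r := p) (fun e => by subst e; exact absurd hodd (by decide))
    (x := x) ⟨hiso, hxp⟩
  refine ⟨X, hXΩ, hXp, fun g hg hN => ?_⟩
  obtain ⟨y, hy, hyi, hyd, hyts⟩ := conj_data hX hg hiso hxp
  refine S.no_root hQn hyi.iso (fun v => ?_) (hyd.trans hrd) (hyts hts)
  have := G.comm_of_odd S.two hN hodd (by rw [hy]; exact hyi.pow) v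
  rwa [hy] at this

/-- The isometries commuting with the field. -/
def cent (Q : QuadraticForm F (ι → F)) (J : Matrix ι ι F) : Subgroup (Cfsg.isometryGroup F (⇑Q)) where
  carrier := {g | mat Q g * J = J * mat Q g}
  mul_mem' {a b} ha hb := by
    show mat Q a * mat Q b * J = J * (mat Q a * mat Q b)
    rw [mul_assoc, hb, ← mul_assoc, ha, mul_assoc]
  one_mem' := by
    show (1 : Matrix ι ι F) * J = J * 1
    rw [one_mul, mul_one]
  inv_mem' {a} ha := by
    obtain ⟨h1, h2⟩ := gl_cancel (a : GL ι F)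
    show ((a : GL ι F)⁻¹ : GL ι F).val * J = J * ((a : GL ι F)⁻¹ : GL ι F).val
    have ha' : (a : GL ι F).val * J = J * (a : GL ι F).val := ha
    calc ((a : GL ι F)⁻¹ : GL ι F).val * J
        = ((a : GL ι F)⁻¹ : GL ι F).val * (J * (a : GL ι F).val) * ((a : GL ι F)⁻¹ : GL ι F).val := by
          rw [mul_assoc, mul_assoc, h1, mul_one]
      _ = _ := by rw [← ha', ← mul_assoc, h2, one_mul]

theorem card_cent (S : Str Q (Matrix.toLin' J) δ) [Fact (∀ t : F, t ^ 2 ≠ δ + 0 * t)] :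
    Nat.card (cent Q J) = Nat.card (Cfsg.Lib.Classical.OrthCard.Aut (qK S)) := by
  classical
  have hc : ∀ (g : cent Q J) (v : ι → F), mat Q g.1 *ᵥ (J *ᵥ v) = J *ᵥ (mat Q g.1 *ᵥ v) := fun g v => by
    rw [Matrix.mulVec_mulVec, Matrix.mulVec_mulVec, show mat Q g.1 * J = J * mat Q g.1 from g.2]
  let f : cent Q J → Cfsg.Lib.Classical.OrthCard.Aut (qK S) := fun g =>
    ⟨{ toFun := fun v => toKV S (mat Q g.1 *ᵥ (toKV S).symm v)
       invFun := fun v => toKV S (mat Q g.1⁻¹ *ᵥ (toKV S).symm v)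
       map_add' := fun a b => by rw [map_add, Matrix.mulVec_add, map_add]
       map_smul' := fun c v => by
         obtain ⟨v, rfl⟩ := toKV_surj S v
         simp only [RingHom.id_apply, smul_kv, LinearEquiv.symm_apply_apply, Matrix.toLin'_apply, Matrix.mulVec_add,
           Matrix.mulVec_smul, hc]
       left_inv := fun v => by
         simp only [LinearEquiv.symm_apply_apply, Cfsg.Lib.Classical.Refl.mulVec_inv_cancel,
           LinearEquiv.apply_symm_apply]
       right_inv := fun v => by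
         simp only [LinearEquiv.symm_apply_apply]
         rw [← Cfsg.Lib.Classical.Refl.mulVec_mul, mul_inv_cancel, mat_one, LinearEquiv.apply_symm_apply] },
     fun v => by
       obtain ⟨v, rfl⟩ := toKV_surj S v
       show qK S (toKV S (mat Q g.1 *ᵥ (toKV S).symm (toKV S v))) = _
       have hiso : ∀ z, Q (mat Q g.1 *ᵥ z) = Q z := mat_iso g.1
       rw [LinearEquiv.symm_apply_apply, qK_apply, qK_apply, hiso]
       simp only [polar, Matrix.toLin'_apply, ← hc, ← Matrix.mulVec_add, hiso]⟩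
  refine Nat.card_congr (Equiv.ofBijective f ⟨fun g h e => ?_, fun e => ?_⟩)
  · refine Subtype.ext (Cfsg.Lib.Classical.Refl.ext_mulVec Q fun v => (toKV S).injective ?_)
    have := congrArg (fun z : Cfsg.Lib.Classical.OrthCard.Aut (qK S) => z.1 (toKV S v)) e
    simpa [f] using this
  · let e' : (ι → F) ≃ₗ[F] (ι → F) := (toKV S).trans ((e.1.restrictScalars F).trans (toKV S).symm)
    have he' : ∀ v, toKV S (e' v) = e.1 (toKV S v) := fun v => by simp [e']
    obtain ⟨g, hg⟩ := Cfsg.Lib.Classical.Refl.exists_of_equiv Q e' (fun v => by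
      rw [← qK_im S, he', e.2, qK_im])
    refine ⟨⟨g, ?_⟩, Subtype.ext (LinearEquiv.ext fun v => ?_)⟩
    · show mat Q g * J = J * mat Q g
      refine Matrix.ext_of_mulVec_single fun i => ?_
      rw [← Matrix.mulVec_mulVec, ← Matrix.mulVec_mulVec, hg, hg]
      refine (toKV S).injective ?_
      have e1 := fun z => smul_kv S (⟨0, 1⟩ : Quad δ) z
      simp only [zero_smul, one_smul, zero_add, Matrix.toLin'_apply] at e1
      rw [he', ← e1, map_smul, ← he', e1]
    · obtain ⟨v, rfl⟩ := toKV_surj S v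
      show toKV S (mat Q g *ᵥ (toKV S).symm (toKV S v)) = _
      rw [LinearEquiv.symm_apply_apply, hg, he']

include p in
/-- The index is prime to `r` in the remaining case. -/
theorem not_dvd_index (hQ : (polarBilin Q).Nondegenerate) {d : ℕ} (hn : Fintype.card ι = 2 * d) (hd : 0 < d)
    (G : Gen K J δ) (S : Str Q (Matrix.toLin' J) δ) (hr2 : r ≠ 2) (hrp : r ≠ p)
    (h4 : orderOf (Fintype.card F : ZMod r) % 4 = 0) :
    ¬ r ∣ (Cfsg.Geo.subalgebraNormalizer K).relIndex (Cfsg.Geo.omegaGL (⇑Q)) := by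
  classical
  haveI := S.fact
  intro hdvd
  have hr : r.Prime := Fact.out
  have hqr := Cfsg.Lib.Classical.PrimeOrd.not_dvd_card (F := F) (p := p) hr hrp
  obtain ⟨M, hM, hcard⟩ := S.card_factor (nd_top_of_nondeg hQ) (d := d)
    (by rw [Module.finrank_fintype_fun_eq_card, hn]) hd hr hqr fun j hj h => by
      have e : ((Fintype.card F : ZMod r)) ^ (2 * j) = 1 := by
        have e := (ZMod.natCast_eq_zero_iff _ r).2 h
        rw [Nat.cast_sub (Nat.one_le_pow _ _ Fintype.card_pos), Nat.cast_pow, Nat.cast_one, sub_eq_zero] at e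
        exact e
      have := orderOf_dvd_of_pow_eq_one e
      obtain ⟨k, rfl⟩ := hj
      have h' : 4 ∣ 2 * (2 * k + 1) := (Nat.dvd_of_mod_eq_zero h4).trans this
      omega
  rw [← Cfsg.Lib.Classical.OrthCard.card_isometryGroup, ← card_cent S] at hcard
  have hidx : (cent Q J).index = M := by
    have := (cent Q J).card_mul_index
    rw [hcard] at this
    exact Nat.eq_of_mul_eq_mul_left Nat.card_pos this
  have hle : cent Q J ≤ (Cfsg.Geo.subalgebraNormalizer K).comap (Cfsg.isometryGroup F (⇑Q)).subtype :=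
    fun g hg => G.norm_iff.2 (Or.inl hg)
  rw [Cfsg.Geo.omegaGL, ← Subgroup.relIndex_comap] at hdvd
  have h1 := hdvd.trans (Subgroup.relIndex_dvd_of_le_left (Cfsg.Omega F (⇑Q)) hle)
  haveI : (Cfsg.Omega F (⇑Q)).Normal := by unfold Cfsg.Omega; infer_instance
  have h2 := Subgroup.relIndex_mul_index (inf_le_right : cent Q J ⊓ Cfsg.Omega F (⇑Q) ≤ Cfsg.Omega F (⇑Q))
  have h3 := Subgroup.relIndex_mul_index (inf_le_left : cent Q J ⊓ Cfsg.Omega F (⇑Q) ≤ cent Q J)
  rw [Subgroup.inf_relIndex_right] at h2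
  rw [Subgroup.inf_relIndex_left, hidx, ← h2] at h3
  have h4' : r ∣ (Cfsg.Omega F (⇑Q)).relIndex (cent Q J) * M := h3 ▸ h1.mul_right _
  rcases hr.dvd_mul.1 h4' with h | h
  · have h5 := h.trans (Subgroup.relIndex_dvd_index_of_normal _ _)
    rw [Cfsg.Lib.Classical.Refl.index_omega_odd Q S.two hQ (by omega), show (4 : ℕ) = 2 * 2 from rfl] at h5
    rcases hr.dvd_mul.1 h5 with h | h <;> exact hr2 ((Nat.prime_dvd_prime_iff_eq hr Nat.prime_two).1 h)
  · exact hM h

include p in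
/-- The atom element. -/
theorem bad_atom (hQ : (polarBilin Q).Nondegenerate) (hn : 8 ≤ Fintype.card ι) (G : Gen K J δ)
    (S : Str Q (Matrix.toLin' J) δ) (hr2 : r ≠ 2) (hrp : r ≠ p)
    (hcase : ¬ Even (orderOf (Fintype.card F : ZMod r)) ∨ orderOf (Fintype.card F : ZMod r) % 4 = 2)
    (hΩ : r ∣ (Cfsg.Geo.subalgebraNormalizer K).relIndex (Cfsg.Geo.omegaGL (⇑Q))) : Bad Q K r := by
  classical
  haveI : Nonempty ι := Fintype.card_pos_iff.mp (by omega)
  have hQn := nd_top_of_nondeg hQ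
  have hr : r.Prime := Fact.out
  have hrc := r_cast_ne (p := p) (F := F) hrp
  have hdvd : r ∣ Nat.card (Cfsg.Geo.omegaGL (⇑Q)) := hΩ.trans (Subgroup.relIndex_dvd_card _ _)
  obtain ⟨⟨X₀, hX₀Ω⟩, hX₀⟩ := exists_prime_orderOf_dvd_card' (G := Cfsg.Geo.omegaGL (⇑Q)) r hdvd
  rw [Subgroup.orderOf_mk] at hX₀
  set x₀ := Matrix.toLin' (X₀ : Matrix ι ι F) with hx₀def
  have hx₀ : RIsom Q r x₀ := ⟨fun v => by rw [hx₀def, Matrix.toLin'_apply]; exact omega_isom hX₀Ω v, by
    rw [hx₀def, ← pow_toLin', ← Units.val_pow_eq_pow_val, ← hX₀, pow_orderOf_eq_one, Units.val_one, Matrix.toLin'_one]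
    rfl⟩
  obtain ⟨-, hE⟩ := hx₀.nd_fix hrc hQn
  have hmov : mov x₀ ≠ ⊥ := fun e => hr.one_lt.ne' (by
    rw [← hX₀, orderOf_eq_one_iff]
    refine Units.ext (Matrix.toLin'.injective (LinearMap.ext fun v => ?_))
    have h : (x₀ - 1) v = 0 := by
      have : (x₀ - 1) v ∈ mov x₀ := ⟨v, rfl⟩
      rw [e] at this
      exact (Submodule.mem_bot F).1 this
    rw [LinearMap.sub_apply, sub_eq_zero] at h
    rw [Units.val_one, Matrix.toLin'_one]
    exact h)
  obtain ⟨A, -, hA, hAd, -, hA0⟩ := exists_atom (p := p) hx₀ hr2 hrp hE hmov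
  obtain ⟨hsup, -⟩ := sup_perp hQn (le_top : A ≤ ⊤) hA.nd
  have hcompl : IsCompl A (perp Q ⊤ A) := ⟨disjoint_iff.2 (nd_disjoint hA.nd (orth_perp ⊤ A)), codisjoint_iff.2 hsup⟩
  have hres : ∀ (j : ℕ) (a : A), ((x₀.restrict (show ∀ w ∈ A, x₀ w ∈ A from fun w hw => hA.inv w hw)) ^ j) a =
      ⟨(x₀ ^ j) a, (Cfsg.Lib.Classical.PrimeOrd.res_pow x₀ hA.inv j a) ▸ Subtype.coe_prop _⟩ := fun j a =>
    Subtype.ext (Cfsg.Lib.Classical.PrimeOrd.res_pow x₀ hA.inv j a)
  obtain ⟨x, hx, hxA, hxB⟩ := glue (r := r) hcompl (orth_perp ⊤ A)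
    (x₀.restrict (show ∀ w ∈ A, x₀ w ∈ A from fun w hw => hA.inv w hw)) 1 (fun a => hx₀.iso a) (fun b => rfl)
    (LinearMap.ext fun a => Subtype.ext (by rw [hres]; show (x₀ ^ r) (a : ι → F) = (a : ι → F); rw [hx₀.pow]; rfl))
    (one_pow r)
  have hmovA : mov x = A := by
    refine le_antisymm ?_ ?_
    · rintro _ ⟨v, rfl⟩
      obtain ⟨a, ha, b, hb, rfl⟩ := mem_sup.1 (hsup.ge (mem_top : v ∈ ⊤))
      have e : (x - 1) (a + b) = x₀ a - a := by
        rw [LinearMap.sub_apply, Module.End.one_apply, map_add, show x a = x₀ a from hxA ⟨a, ha⟩,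
          show x b = b from hxB ⟨b, hb⟩]
        abel
      rw [e]
      exact A.sub_mem (hA.inv a ha) ha
    · refine Fpf.mov_le hx hrc ⟨hA.nd, fun a ha => ?_, eq_bot_iff.2 fun a ha => ?_⟩
      · show x a ∈ A
        rw [show x a = x₀ a from hxA ⟨a, ha⟩]
        exact hA.inv a ha
      · refine hA.free.le ⟨ha.1, mem_fix.2 ?_⟩
        rw [← show x a = x₀ a from hxA ⟨a, ha.1⟩]
        exact mem_fix.1 ha.2
  obtain ⟨X, hXΩ, hXr, hX⟩ := exists_gl hQ (by omega) hr2 hx
  refine ⟨X, hXΩ, hXr, fun g hg hN => ?_⟩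
  obtain ⟨y, hy, hyi, hyd, -⟩ := conj_data hX hg hx.iso hx.pow
  refine S.no_atom (p := p) hQn hyi (fun v => ?_) hr2 hrp rfl ?_ hcase
  · have := G.comm_of_odd S.two hN (hr.odd_of_ne_two hr2) (by rw [hy]; exact hyi.pow) v
    rwa [hy] at this
  · exact hyd.trans (show Module.finrank F (mov x) = _ by rw [hmovA, hAd])

include p in
/-- Some element of odd prime order has no conjugate in the normalizer. -/
theorem bad_of_odd (hQ : (polarBilin Q).Nondegenerate) {d : ℕ} (hn : Fintype.card ι = 2 * d) (hd : 4 ≤ d)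
    (G : Gen K J δ) (S : Str Q (Matrix.toLin' J) δ) (hodd : Odd p) (hr2 : r ≠ 2)
    (hΩ : r ∣ (Cfsg.Geo.subalgebraNormalizer K).relIndex (Cfsg.Geo.omegaGL (⇑Q))) : Bad Q K r := by
  rcases eq_or_ne r p with rfl | hrp
  · exact bad_unip hQ (by omega) G S hodd
  by_cases hev : Even (orderOf (Fintype.card F : ZMod r))
  · rcases (show orderOf (Fintype.card F : ZMod r) % 4 = 0 ∨ orderOf (Fintype.card F : ZMod r) % 4 = 2 by
      obtain ⟨k, hk⟩ := hev; omega) with h | h
    · exact absurd hΩ (not_dvd_index (p := p) hQ hn (by omega) G S hr2 hrp h)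
    · exact bad_atom (p := p) hQ (by omega) G S hr2 hrp (Or.inr h) hΩ
  · exact bad_atom (p := p) hQ (by omega) G S hr2 hrp (Or.inl hev) hΩ

end Cfsg.Lib.OrthEl.Ext
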