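import Cfsg.Agent.Classical.OrthElusive.InvOdd
import Cfsg.Agent.Classical.OrthElusive.Bridge
import Cfsg.Agent.Known.OrthField.Classify

/-!
# A self-adjoint quadratic extension field on an orthogonal space
-/

set_option autoImplicit false
set_option linter.unusedSectionVars false

open QuadraticMap Submodule Cfsg.Lib.FormNormal
open Cfsg.Lib.Classical.PrimeOrd (Inv)

namespace Cfsg.Lib.OrthEl.Ext

universe u v

variable {F : Type u} [Field F] [Fintype F] {V : Type v} [AddCommGroup V] [Module F V] [FiniteDimensional F V]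

/-- A self-adjoint square root of a nonsquare. -/
structure Str (Q : QuadraticForm F V) (J : Module.End F V) (δ : F) : Prop where
  two : (2 : F) ≠ 0
  sq : ∀ v, J (J v) = δ • v
  noroot : ¬ IsSquare δ
  adj : ∀ u v, polar (⇑Q) (J u) v = polar (⇑Q) u (J v)

variable {Q : QuadraticForm F V} {J : Module.End F V} {δ : F}

theorem Str.delta_ne (S : Str Q J δ) : δ ≠ 0 := fun h => S.noroot (h ▸ ⟨0, (mul_zero 0).symm⟩)

theorem Str.inj (S : Str Q J δ) : Function.Injective J := fun a b h =>
  smul_right_injective V S.delta_ne (show δ • a = δ • b by rw [← S.sq, ← S.sq, h])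

theorem Str.q_J (S : Str Q J δ) (v : V) : Q (J v) = δ * Q v := by
  have h : polar (⇑Q) (J v) (J v) = δ * polar (⇑Q) v v := by
    rw [S.adj, S.sq, QuadraticMap.polar_smul_right, smul_eq_mul]
  rw [FormNormal.polar_self', FormNormal.polar_self'] at h
  exact mul_left_cancel₀ S.two (by linear_combination h)

theorem Str.inv_perp (S : Str Q J δ) {U W : Submodule F V} (hU : Inv J U) (hW : Inv J W) : Inv J (perp Q U W) :=
  fun v hv => mem_perp.2 ⟨hU v (mem_perp.1 hv).1, fun a ha => by
    rw [← S.adj]; exact (mem_perp.1 hv).2 _ (hW a ha)⟩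

theorem Str.inv_top : Inv J (⊤ : Submodule F V) := fun _ _ => trivial

/-- The norm of the extended form at a vector. -/
def nv (Q : QuadraticForm F V) (J : Module.End F V) (δ : F) (v : V) : F :=
  (polar (⇑Q) (J v) v / 2) ^ 2 - δ * Q v ^ 2

/-- The line of a vector over the extension. -/
def line (J : Module.End F V) (v : V) : Submodule F V := span F ({v, J v} : Set V)

theorem mem_line_self (v : V) : v ∈ line J v := subset_span (by simp)

theorem line_le {U : Submodule F V} {v : V} (hU : Inv J U) (hv : v ∈ U) : line J v ≤ U :=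
  span_le.2 (by rintro z (rfl | rfl); exacts [hv, hU v hv])

theorem Str.inv_line (S : Str Q J δ) (v : V) : Inv J (line J v) := fun z hz => by
  obtain ⟨a, b, rfl⟩ := mem_span_pair.1 hz
  rw [map_add, map_smul, map_smul, S.sq, smul_smul, add_comm]
  exact mem_span_pair.2 ⟨b * δ, a, rfl⟩

theorem Str.li_line (S : Str Q J δ) {v : V} (hv : v ≠ 0) : LinearIndependent F ![v, J v] := by
  rw [LinearIndependent.pair_iff]
  intro a b h
  have h' := congrArg J h
  rw [map_add, map_smul, map_smul, S.sq, smul_smul, map_zero] at h'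
  have h2 : (a * a - b * b * δ) • v = 0 := by
    have e : a • (a • v + b • J v) - b • (a • J v + (b * δ) • v) = (a * a - b * b * δ) • v := by module
    rw [← e, h, h', smul_zero, smul_zero, sub_zero]
  have h3 := (smul_eq_zero.1 h2).resolve_right hv
  have hb : b = 0 := by
    by_contra hb
    exact S.noroot ⟨a / b, by field_simp; linear_combination -h3⟩
  subst hb
  rw [zero_smul, add_zero] at h
  exact ⟨(smul_eq_zero.1 h).resolve_right hv, rfl⟩

theorem Str.finrank_line (S : Str Q J δ) {v : V} (hv : v ≠ 0) : Module.finrank F (line J v) = 2 := by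
  have h := finrank_span_eq_card (S.li_line hv)
  rw [Matrix.range_cons, Matrix.range_cons, Matrix.range_empty, Set.union_empty, Set.singleton_union,
    Fintype.card_fin] at h
  exact h

theorem nv_zero : nv Q J δ (0 : V) = 0 := by simp [nv]

theorem ne_of_nv {v : V} (h : nv Q J δ v ≠ 0) : v ≠ 0 := fun e => h (e ▸ nv_zero)

theorem Str.nd_line (S : Str Q J δ) {v : V} (h : nv Q J δ v ≠ 0) : ND Q (line J v) := by
  intro x hx hp
  obtain ⟨s, t, rfl⟩ := mem_span_pair.1 hx
  have e1 := hp v (mem_line_self v)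
  have e2 := hp (J v) (subset_span (by simp))
  rw [QuadraticMap.polar_add_left, QuadraticMap.polar_smul_left, QuadraticMap.polar_smul_left,
    FormNormal.polar_self', smul_eq_mul, smul_eq_mul] at e1
  rw [QuadraticMap.polar_add_left, QuadraticMap.polar_smul_left, QuadraticMap.polar_smul_left, ← S.adj,
    FormNormal.polar_self', S.q_J, smul_eq_mul, smul_eq_mul] at e2
  have h2 := S.two
  set A := polar (⇑Q) (J v) v / 2 with hA
  have hA2 : polar (⇑Q) (J v) v = 2 * A := by rw [hA]; field_simp
  rw [hA2] at e1 e2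
  have e1' : s * Q v + t * A = 0 := mul_left_cancel₀ h2 (by linear_combination e1)
  have e2' : s * A + t * δ * Q v = 0 := mul_left_cancel₀ h2 (by linear_combination e2)
  have hn : nv Q J δ v = A ^ 2 - δ * Q v ^ 2 := rfl
  have hs : s * nv Q J δ v = 0 := by rw [hn]; linear_combination A * e2' - δ * Q v * e1'
  have ht : t * nv Q J δ v = 0 := by rw [hn]; linear_combination A * e1' - Q v * e2'
  rw [(mul_eq_zero.1 hs).resolve_right h, (mul_eq_zero.1 ht).resolve_right h, zero_smul, zero_smul, add_zero]

theorem Str.plus_line (S : Str Q J δ) {v : V} (h : nv Q J δ v ≠ 0) :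
    Plus Q (line J v) ↔ IsSquare (nv Q J δ v) := by
  have hv := ne_of_nv h
  have h2 := S.two
  set A := polar (⇑Q) (J v) v / 2 with hA
  have hA2 : polar (⇑Q) (J v) v = 2 * A := by rw [hA]; field_simp
  have hval : ∀ s t : F, Q (s • v + t • J v) = s * s * Q v + 2 * (s * t) * A + t * t * δ * Q v := fun s t => by
    rw [QuadraticMap.map_add (f := Q), QuadraticMap.map_smul, QuadraticMap.map_smul, QuadraticMap.polar_smul_left,
      QuadraticMap.polar_smul_right, QuadraticMap.polar_comm, hA2, S.q_J, smul_eq_mul, smul_eq_mul, smul_eq_mul,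
      smul_eq_mul]
    ring
  have hn : nv Q J δ v = A ^ 2 - δ * Q v ^ 2 := rfl
  rw [hn]
  constructor
  · rintro ⟨U, hU, hts, hd⟩
    rw [S.finrank_line hv] at hd
    obtain ⟨z, hz, hz0⟩ := U.exists_mem_ne_zero_of_ne_bot fun e => by rw [e, finrank_bot] at hd; omega
    obtain ⟨s, t, rfl⟩ := mem_span_pair.1 (hU hz)
    have e := hts _ hz
    rw [hval] at e
    by_cases hb : Q v = 0
    · exact ⟨A, by rw [hb]; ring⟩
    by_cases ht : t = 0
    · subst ht
      exfalso
      refine hz0 ?_
      have hs : s * s * Q v = 0 := by linear_combination e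
      rw [mul_self_eq_zero.1 ((mul_eq_zero.1 hs).resolve_right hb), zero_smul, zero_smul, add_zero]
    · refine ⟨(s * Q v + t * A) / t, ?_⟩
      field_simp
      linear_combination -(Q v) * e
  · rintro ⟨m, hm⟩
    obtain ⟨z, hz, hz0, hQz⟩ : ∃ z ∈ line J v, z ≠ 0 ∧ Q z = 0 := by
      by_cases hb : Q v = 0
      · exact ⟨v, mem_line_self v, hv, hb⟩
      · refine ⟨((-A + m) / Q v) • v + (1 : F) • J v, mem_span_pair.2 ⟨_, _, rfl⟩, fun e => ?_, ?_⟩
        · exact one_ne_zero (LinearIndependent.pair_iff.1 (S.li_line hv) _ _ e).2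
        · rw [hval]
          field_simp
          linear_combination -hm
    refine ⟨span F {z}, (span_singleton_le_iff_mem _ _).2 hz, fun y hy => ?_, ?_⟩
    · obtain ⟨c, rfl⟩ := mem_span_singleton.1 hy
      rw [QuadraticMap.map_smul, hQz, smul_zero]
    · rw [finrank_span_singleton hz0, S.finrank_line hv]

/-- A plane invariant under the field is the line of any of its vectors. -/
theorem Str.nv_ne_of_plane (S : Str Q J δ) {U : Submodule F V} (hU : Inv J U) (hn : ND Q U)
    (hd : Module.finrank F U = 2) {v : V} (hv : v ∈ U) (hv0 : v ≠ 0) : nv Q J δ v ≠ 0 ∧ line J v = U := by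
  have hl : line J v = U := Submodule.eq_of_le_of_finrank_eq (line_le hU hv) (by rw [hd, S.finrank_line hv0])
  refine ⟨fun h => hv0 (hn v hv fun y hy => ?_), hl⟩
  have hb : Q v = 0 := by
    by_contra hb
    refine S.noroot ⟨polar (⇑Q) (J v) v / 2 / Q v, ?_⟩
    unfold nv at h
    field_simp at h ⊢
    linear_combination -h
  have ha : polar (⇑Q) (J v) v = 0 := by
    unfold nv at h
    rw [hb] at h
    have h' : (polar (⇑Q) (J v) v / 2) ^ 2 = 0 := by linear_combination h
    rw [pow_eq_zero_iff two_ne_zero, div_eq_zero_iff] at h'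
    exact h'.resolve_right S.two
  rw [← hl] at hy
  obtain ⟨s, t, rfl⟩ := mem_span_pair.1 hy
  rw [QuadraticMap.polar_add_right, QuadraticMap.polar_smul_right, QuadraticMap.polar_smul_right,
    FormNormal.polar_self', hb, QuadraticMap.polar_comm _ v (J v), ha, mul_zero, smul_zero, smul_zero, add_zero]

/-- Moving a plus type along an isometry. -/
theorem plus_top_congr {W : Type*} [AddCommGroup W] [Module F W] [FiniteDimensional F W] {R : QuadraticForm F W}
    (e : V ≃ₗ[F] W) (he : ∀ v, Q v = R (e v)) :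
    Plus Q (⊤ : Submodule F V) ↔ Plus R (⊤ : Submodule F W) := by
  constructor
  · rintro ⟨U, -, hts, hd⟩
    refine ⟨U.map e.toLinearMap, le_top, ?_, ?_⟩
    · rintro _ ⟨u, hu, rfl⟩
      exact (he u).symm.trans (hts u hu)
    · rw [LinearEquiv.finrank_map_eq, hd, finrank_top, finrank_top, e.finrank_eq]
  · rintro ⟨U, -, hts, hd⟩
    refine ⟨U.map e.symm.toLinearMap, le_top, ?_, ?_⟩
    · rintro _ ⟨u, hu, rfl⟩
      show Q (e.symm u) = 0
      rw [he, e.apply_symm_apply, hts u hu]
    · rw [LinearEquiv.finrank_map_eq, hd, finrank_top, finrank_top, e.finrank_eq]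

end Cfsg.Lib.OrthEl.Ext
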