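import Cfsg.Agent.Classical.OrthElusive.FieldExt.KSpace

/-!
# Invariant subspaces of given type, square roots of minus one inverting the field
-/

set_option autoImplicit false
set_option linter.unusedSectionVars false

open QuadraticMap Submodule Cfsg.Lib.FormNormal
open Cfsg.Lib.Classical.PrimeOrd (Inv)

namespace Cfsg.Lib.OrthEl.Ext

universe u v

variable {F : Type u} [Field F] [Fintype F] {V : Type v} [AddCommGroup V] [Module F V] [FiniteDimensional F V]
  {Q : QuadraticForm F V} {J : Module.End F V} {δ : F}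

/-- Invariant subspaces of every type in every dimension. -/
theorem Str.exists_sub (S : Str Q J δ) : ∀ (k : ℕ) (U : Submodule F V) (b : Prop), Inv J U → ND Q U →
    2 * k + 4 ≤ Module.finrank F U →
    ∃ W ≤ U, Inv J W ∧ ND Q W ∧ Module.finrank F W = 2 * (k + 1) ∧ (Plus Q W ↔ b) := by
  intro k
  induction k with
  | zero =>
    intro U b hU hn hd
    obtain ⟨v, hv, h0, hb⟩ := S.exists_type hU hn (by omega) b
    exact ⟨line J v, line_le hU hv, S.inv_line v, S.nd_line h0, S.finrank_line (ne_of_nv h0),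
      (S.plus_line h0).trans hb⟩
  | succ k ih =>
    intro U b hU hn hd
    obtain ⟨v, hv, h0, hb⟩ := S.exists_type hU hn (by omega) True
    have hle := line_le hU hv
    have hLn := S.nd_line h0
    have hLd := S.finrank_line (ne_of_nv h0)
    obtain ⟨-, hRn⟩ := sup_perp hn hle hLn
    have hRd := finrank_perp hn hle
    obtain ⟨W, hW, hWi, hWn, hWd, hWb⟩ := ih _ b (S.inv_perp hU (S.inv_line v)) hRn (by omega)
    have hor : Orth Q (line J v) W := (orth_perp U (line J v)).mono le_rfl hW
    refine ⟨line J v ⊔ W, sup_le hle (hW.trans (perp_le _ _)), fun z hz => ?_, nd_sup hLn hWn hor,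
      by rw [finrank_sup_orth hLn hor, hLd, hWd]; ring, ?_⟩
    · obtain ⟨a, ha, c, hc, rfl⟩ := mem_sup.1 hz
      rw [map_add]
      exact add_mem_sup (S.inv_line v a ha) (hWi c hc)
    · rw [plus_sup_iff hLn hWn hor (by rw [hLd]; exact even_two) (by rw [hWd]; exact even_two_mul _), S.plus_line h0,
        hWb]
      exact ⟨fun h => h.1 (hb.2 trivial), fun h => ⟨fun _ => h, fun _ => hb.2 trivial⟩⟩

/-- The rotation of a frame plane. -/
noncomputable def rot (Q : QuadraticForm F V) (u w : V) : Module.End F V :=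
  (2 : F)⁻¹ • ((polarBilin Q u).smulRight w - (polarBilin Q w).smulRight u)

theorem rot_apply (u w z : V) :
    rot Q u w z = (2 : F)⁻¹ • (polar (⇑Q) u z • w - polar (⇑Q) w z • u) := by simp [rot]

/-- A square root of minus one anticommuting with the field. -/
theorem Str.exists_root (S : Str Q J δ) : ∀ (m : ℕ) (U : Submodule F V), Inv J U → ND Q U →
    Module.finrank F U = 2 * m → (Plus Q U ↔ (IsSquare (-1 : F) ∨ Even m)) →
    ∃ T : Module.End F V, (∀ z, T z ∈ U) ∧ (∀ z ∈ perp Q ⊤ U, T z = 0) ∧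
      (∀ z ∈ U, Q (T z) = Q z ∧ T (T z) = -z ∧ T (J z) = -J (T z)) ∧
      (0 < m → ∃ u ∈ U, Q u ≠ 0 ∧ T u ∈ line J u) := by
  intro m
  induction m with
  | zero =>
    intro U _ _ hd _
    have hb : U = ⊥ := Submodule.finrank_eq_zero.1 (by omega)
    subst hb
    refine ⟨0, fun z => zero_mem _, fun z _ => rfl, fun z hz => ?_, fun h => absurd h (by omega)⟩
    rw [(Submodule.mem_bot F).1 hz]
    simp
  | succ m ih =>
    intro U hU hn hd hp
    have h2 := S.two
    obtain ⟨v, hv, h0, hvp⟩ : ∃ v ∈ U, nv Q J δ v ≠ 0 ∧ (Plus Q (line J v) ↔ IsSquare (-1 : F)) := by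
      rcases Nat.eq_zero_or_pos m with rfl | hm
      · obtain ⟨v, hv, hv0⟩ := U.exists_mem_ne_zero_of_ne_bot fun e => by rw [e, finrank_bot] at hd; omega
        obtain ⟨h0, hl⟩ := S.nv_ne_of_plane hU hn (by omega) hv hv0
        refine ⟨v, hv, h0, ?_⟩
        rw [hl, hp]
        simp
      · obtain ⟨v, hv, h0, hb⟩ := S.exists_type hU hn (by omega) (IsSquare (-1 : F))
        exact ⟨v, hv, h0, (S.plus_line h0).trans hb⟩
    obtain ⟨L, hLdef⟩ : ∃ L, L = line J v := ⟨_, rfl⟩
    rw [← hLdef] at hvp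
    have hLe : L ≤ U := hLdef ▸ line_le hU hv
    have hLn : ND Q L := hLdef ▸ S.nd_line h0
    have hLd : Module.finrank F L = 2 := hLdef ▸ S.finrank_line (ne_of_nv h0)
    have hLi : Inv J L := hLdef ▸ S.inv_line v
    -- an orthonormal frame of the plane
    obtain ⟨u, hu, hQu⟩ := exists_value Q L hLn (by omega) 1 one_ne_zero
    have hu0 : u ≠ 0 := fun e => one_ne_zero (α := F) (by rw [← hQu, e, QuadraticMap.map_zero])
    obtain ⟨hnu, hlu⟩ := S.nv_ne_of_plane hLi hLn hLd hu hu0
    have huu : polar (⇑Q) u u = 2 := by rw [FormNormal.polar_self', hQu, mul_one]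
    set w0 := J u - (polar (⇑Q) (J u) u / 2) • u with hw0def
    have hw0L : w0 ∈ L := L.sub_mem (hLi u hu) (L.smul_mem _ hu)
    have huw0 : polar (⇑Q) u w0 = 0 := by
      rw [hw0def, QuadraticMap.polar_sub_right, QuadraticMap.polar_smul_right, huu, QuadraticMap.polar_comm,
        smul_eq_mul]
      field_simp
      ring
    have hQw0 : Q w0 = -nv Q J δ u := by
      have e := Cfsg.Lib.FormNormal.polar_self' Q u
      rw [hw0def, sub_eq_add_neg, ← neg_smul, QuadraticMap.map_add (f := Q), QuadraticMap.map_smul,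
        QuadraticMap.polar_smul_right, S.q_J, hQu, nv, hQu, smul_eq_mul, smul_eq_mul]
      field_simp
      ring
    obtain ⟨c, hc⟩ : IsSquare (-nv Q J δ u) := (neg_sq_iff (neg_ne_zero.2 hnu)).1 (by
      rw [neg_neg, ← S.plus_line hnu, hlu, hvp])
    have hc0 : c ≠ 0 := fun e => hnu (neg_eq_zero.1 (by rw [hc, e, zero_mul]))
    set w := c⁻¹ • w0 with hwdef
    have hw : w ∈ L := L.smul_mem _ hw0L
    have huw : polar (⇑Q) u w = 0 := by rw [hwdef, QuadraticMap.polar_smul_right, huw0, smul_zero]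
    have hwu : polar (⇑Q) w u = 0 := by rw [QuadraticMap.polar_comm]; exact huw
    have hQw : Q w = 1 := by
      rw [hwdef, QuadraticMap.map_smul, hQw0, hc, smul_eq_mul]
      field_simp
    have hww : polar (⇑Q) w w = 2 := by rw [FormNormal.polar_self', hQw, mul_one]
    have hspan : ∀ z ∈ L, ∃ s t : F, z = s • u + t • w := fun z hz => by
      rw [← hlu] at hz
      obtain ⟨s, t, rfl⟩ := mem_span_pair.1 hz
      refine ⟨s + t * (polar (⇑Q) (J u) u / 2), t * c, ?_⟩
      rw [hwdef, smul_smul, mul_assoc, mul_inv_cancel₀ hc0, mul_one, hw0def, smul_sub, smul_smul, add_smul]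
      abel
    clear_value w
    obtain ⟨R, hRdef⟩ : ∃ R, R = rot Q u w := ⟨_, rfl⟩
    have hRu : R u = w := by
      rw [hRdef, rot_apply, huu, hwu, zero_smul, sub_zero, smul_smul, inv_mul_cancel₀ h2, one_smul]
    have hRw : R w = -u := by
      rw [hRdef, rot_apply, huw, hww, zero_smul, zero_sub, smul_neg, smul_smul, inv_mul_cancel₀ h2, one_smul]
    have hR0 : ∀ z, polar (⇑Q) u z = 0 → polar (⇑Q) w z = 0 → R z = 0 := fun z h1 h2' => by
      rw [hRdef, rot_apply, h1, h2', zero_smul, zero_smul, sub_zero, smul_zero]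
    have hRL : ∀ z, R z ∈ L := fun z => by
      rw [hRdef, rot_apply]
      exact L.smul_mem _ (L.sub_mem (L.smul_mem _ hw) (L.smul_mem _ hu))
    -- the remainder
    obtain ⟨hsup, hRn⟩ := sup_perp hn hLe hLn
    have hRd := finrank_perp hn hLe
    obtain ⟨T', hT'U, hT'0, hT'1, -⟩ := ih _ (S.inv_perp hU hLi) hRn (by omega) (by
      rw [← hsup, plus_sup_iff hLn hRn (orth_perp _ _) (by rw [hLd]; exact even_two)
        (Nat.even_iff.2 (by omega)), hvp, Nat.even_add_one] at hp
      tauto)
    have hT'L : ∀ z ∈ L, T' z = 0 := fun z hz => hT'0 z (mem_perp.2 ⟨trivial, fun a ha => by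
      rw [QuadraticMap.polar_comm]; exact (mem_perp.1 ha).2 z hz⟩)
    have hRP : ∀ z ∈ perp Q U L, R z = 0 := fun z hz =>
      hR0 z ((mem_perp.1 hz).2 u hu) ((mem_perp.1 hz).2 w hw)
    refine ⟨R + T', fun z => ?_, fun z hz => ?_, fun z hz => ?_, fun _ => ⟨u, hLe hu, by rw [hQu]; exact one_ne_zero, ?_⟩⟩
    · exact U.add_mem (hLe (hRL z)) (perp_le _ _ (hT'U z))
    · rw [LinearMap.add_apply, hR0 z ((mem_perp.1 hz).2 u (hLe hu)) ((mem_perp.1 hz).2 w (hLe hw)),
        hT'0 z (mem_perp.2 ⟨trivial, fun a ha => (mem_perp.1 hz).2 a (perp_le _ _ ha)⟩), add_zero]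
    · rw [← hsup] at hz
      obtain ⟨a, ha, b, hb, rfl⟩ := mem_sup.1 hz
      obtain ⟨hb1, hb2, hb3⟩ := hT'1 b hb
      have eT : (R + T') (a + b) = R a + T' b := by
        simp [map_add, hT'L a ha, hRP b hb]
      have eJ : (R + T') (J (a + b)) = R (J a) + T' (J b) := by
        simp [map_add, hT'L _ (hLi a ha), hRP _ (S.inv_perp hU hLi b hb)]
      have eTT : (R + T') (R a + T' b) = R (R a) + T' (T' b) := by
        simp [map_add, hT'L _ (hRL a), hRP _ (hT'U b)]
      obtain ⟨s, t, rfl⟩ := hspan a ha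
      have eR : R (s • u + t • w) = s • w - t • u := by
        rw [map_add, map_smul, map_smul, hRu, hRw, smul_neg, ← sub_eq_add_neg]
      refine ⟨?_, ?_, ?_⟩
      · rw [eT, (orth_perp U L).q_add (hRL _) (hT'U b), (orth_perp U L).q_add ha hb, hb1, eR, sub_eq_add_neg, ← neg_smul,
          QuadraticMap.map_add (f := Q), QuadraticMap.map_add (f := Q), QuadraticMap.map_smul, QuadraticMap.map_smul,
          QuadraticMap.map_smul, QuadraticMap.map_smul, QuadraticMap.polar_smul_left, QuadraticMap.polar_smul_left,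
          QuadraticMap.polar_smul_right, QuadraticMap.polar_smul_right, huw, hwu, hQu, hQw]
        simp only [smul_eq_mul]
        ring
      · rw [eT, eTT, hb2, eR, map_sub, map_smul, map_smul, hRu, hRw, smul_neg]
        abel
      · rw [eJ, hb3, eT, map_add J]
        -- the plane: trace zero
        obtain ⟨a₁, b₁, hJu⟩ := hspan _ (hLi u hu)
        obtain ⟨a₂, b₂, hJw⟩ := hspan _ (hLi w hw)
        have hab : b₁ = a₂ := by
          have e := S.adj u w
          rw [hJu, hJw, QuadraticMap.polar_add_left, QuadraticMap.polar_add_right, QuadraticMap.polar_smul_left,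
            QuadraticMap.polar_smul_left, QuadraticMap.polar_smul_right, QuadraticMap.polar_smul_right, huw, huu, hww] at e
          simp only [smul_eq_mul, mul_zero, zero_add, add_zero] at e
          exact mul_right_cancel₀ h2 e
        subst hab
        have hJJ : δ • u = (a₁ * a₁ + b₁ * b₁) • u + (b₁ * (a₁ + b₂)) • w := by
          rw [← S.sq, hJu, map_add, map_smul, map_smul, hJu, hJw]; module
        have e1 := congrArg (fun z => polar (⇑Q) u z) hJJ
        have e2 := congrArg (fun z => polar (⇑Q) w z) hJJ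
        simp only [QuadraticMap.polar_add_right, QuadraticMap.polar_smul_right, huu, hww, huw, hwu, smul_eq_mul,
          mul_zero, zero_add, add_zero] at e1 e2
        have hδ : δ = a₁ * a₁ + b₁ * b₁ := mul_right_cancel₀ h2 e1
        have hb₁ : b₁ ≠ 0 := fun e => S.noroot ⟨a₁, by rw [hδ, e]; ring⟩
        have htr : b₂ = -a₁ := by
          have := (mul_eq_zero.1 ((mul_eq_zero.1 e2.symm).resolve_right h2)).resolve_left hb₁
          linear_combination this
        simp only [map_add, map_sub, map_smul, hJu, hJw, htr, hRu, hRw, smul_neg, map_neg]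
        module
    · rw [LinearMap.add_apply, hRu, hT'L u hu, add_zero, hlu]
      exact hw

/-- A square root of minus one in the orthogonal group inverting the field. -/
theorem Str.exists_root_top (S : Str Q J δ) (hQ : ND Q (⊤ : Submodule F V)) {d : ℕ} (hd : Module.finrank F V = 2 * d)
    (hd0 : 0 < d) (hp : Plus Q (⊤ : Submodule F V) ↔ (IsSquare (-1 : F) ∨ Even d)) :
    ∃ (T : Module.End F V) (u : V), (∀ z, Q (T z) = Q z) ∧ (∀ z, T (T z) = -z) ∧ (∀ z, T (J z) = -J (T z)) ∧
      Q u ≠ 0 ∧ T u ∈ line J u := by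
  obtain ⟨T, -, -, h, hu⟩ := S.exists_root d ⊤ Str.inv_top hQ (by rw [finrank_top]; exact hd) hp
  obtain ⟨u, -, hu⟩ := hu hd0
  exact ⟨T, u, fun z => (h z trivial).1, fun z => (h z trivial).2.1, fun z => (h z trivial).2.2, hu⟩

end Cfsg.Lib.OrthEl.Ext
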